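import Cfsg.Agent.Trans.QdFusion
import Cfsg.Agent.Gold.StrongClosed

/-!
# No family of characteristic functors controls strong fusion in `Qd(p)`
-/

set_option autoImplicit false

namespace Cfsg.Lib.Gold

open Cfsg Subgroup Cfsg.Lib.Trans

universe u

variable {p : ℕ} [Fact p.Prime]

theorem normalizer_char_sylow_of_equiv_qd {X : Type*} [Group X] (e : X ≃* qd p) (T : Sylow p X)
    (U : Subgroup (T : Subgroup X)) (hU : U ≠ ⊥) (hc : U.Characteristic) :
    normalizer (U.map (T : Subgroup X).subtype : Set X) ≤ normalizer ((T : Subgroup X) : Set X) := by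
  have : Finite X := Finite.of_equiv _ e.symm.toEquiv
  let S : Sylow p (qd p) := T.mapSurjective (f := e.toMonoidHom) e.surjective
  let φ : (T : Subgroup X) ≃* (S : Subgroup (qd p)) :=
    (T : Subgroup X).equivMapOfInjective e.toMonoidHom e.injective
  have h1 : U.map φ.toMonoidHom ≠ ⊥ := fun h => hU ((map_eq_bot_iff_of_injective _ φ.injective).1 h)
  have h2 : (U.map φ.toMonoidHom).Characteristic := by
    rw [characteristic_iff_map_le]
    rintro α _ ⟨_, ⟨u, hu, rfl⟩, rfl⟩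
    exact ⟨(φ.trans (α.trans φ.symm)) u,
      characteristic_iff_map_le.1 hc (φ.trans (α.trans φ.symm)) ⟨u, hu, rfl⟩, by simp⟩
  have h5 : (U.map φ.toMonoidHom).map (S : Subgroup (qd p)).subtype =
      (U.map (T : Subgroup X).subtype).map e.toMonoidHom := by
    rw [Subgroup.map_map, Subgroup.map_map]
    rfl
  have h3 := (Cfsg.Agent.S2763.result S _ h1 h2).1
  rw [h5, ← map_equiv_normalizer_eq, show (S : Subgroup (qd p)) = (T : Subgroup X).map e.toMonoidHom
    from rfl, ← map_equiv_normalizer_eq] at h3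
  exact (map_injective e.injective h3).le

theorem not_famSF_of_equiv_qd {𝓦 : Set (∀ (Q : Type u) [Group Q], Subgroup Q)}
    (hW : ∀ W ∈ 𝓦, IsCharPFunctor.{u} p W) {X : Type u} [Group X] (e : X ≃* qd p) :
    ¬ FamilyControlsStrongFusionIn p (indFam 𝓦 X) ⊤ := fun h => by
  have : Finite X := Finite.of_equiv _ e.symm.toEquiv
  obtain ⟨T⟩ : Nonempty (Sylow p X) := inferInstance
  have hT : IsCharPFunctor.{u} p fun Q _ => (⊤ : Subgroup Q) :=
    ⟨fun _ _ _ _ _ => top_ne_bot, fun _ _ _ _ _ _ φ => map_top_of_surjective _ φ.surjective⟩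
  have h1 : inducedFunctor (fun Q _ => (⊤ : Subgroup Q)) (T : Subgroup X) = T := by
    rw [inducedFunctor, ← MonoidHom.range_eq_map, range_subtype]
  refine not_controlsStrongFusion_of_equiv_qd hT e T (h1.symm ▸ controlsStrongFusion_of_ctlFus T
    le_rfl le_rfl (((famSF_iff (isConjugacyFunctor_indFam hW) (isSylowIn_top T)).1 h).mono ?_))
  intro x hx
  obtain ⟨W, h2, -, h3⟩ := mem_famE_indFam.1 hx
  rcases eq_or_ne (T : Subgroup X) ⊥ with h4 | h4
  · rw [h4]
    exact le_normalizer_of_normal (H := ⊥) (mem_top x)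
  · exact normalizer_char_sylow_of_equiv_qd e T _
      ((hW W h2).1 _ T.isPGroup' ((nontrivial_iff_ne_bot _).2 h4))
      (characteristic_iff_map_eq.2 fun φ => (hW W h2).2 _ _ T.isPGroup' φ) h3

theorem not_involves_qd_of_famSF {𝓦 : Set (∀ (Q : Type u) [Group Q], Subgroup Q)}
    (hW : ∀ W ∈ 𝓦, IsCharPFunctor.{u} p W) {G : Type u} [Group G]
    (h : ∀ (K R : Subgroup G) [(R.subgroupOf K).Normal],
      FamilyControlsStrongFusionIn p (indFam 𝓦 (K ⧸ R.subgroupOf K)) ⊤) : ¬ Involves (qd p) G :=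
  fun ⟨K, R, _, ⟨e⟩⟩ => not_famSF_of_equiv_qd hW e (h K R)

theorem famSF_zj_of_qdFree (hp : p ≠ 2) {G : Type u} [Group G] [Finite G]
    (h : ¬ Involves (qd p) G) : FamilyControlsStrongFusionIn p (indFam {@zjFunctor p} G) ⊤ := by
  obtain ⟨T⟩ : Nonempty (Sylow p G) := inferInstance
  refine famSF_iff_exists.2 ⟨T, isSylowIn_top T, (zj_ctlFus hp (Or.inr rfl)
    (fun Y _ _ hY => stableOnNormal_of_qdFree hp h Y hY) (isSylowIn_top T)).mono fun x hx => ?_⟩
  exact mem_famE_indFam.2 ⟨_, rfl, trivial, inducedFunctor_zjFunctor p (T : Subgroup G) ▸ hx⟩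

end Cfsg.Lib.Gold
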