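import Cfsg.Agent.Gold.AINon

/-!
# Non-normal abelian essential subgroups have automiser with Sylow 2-subgroups of order two
-/

set_option autoImplicit false

namespace Cfsg.Lib.Gold.AI

open Subgroup Cfsg.Lib.Trans Cfsg.Lib.Local
open scoped commutatorElement

universe u

variable {G : Type u} [Group G] {S E C F D : Subgroup G} {x y : G}

/-- The centre of `N_S(E)` has index two in `E`. -/
def Small (S E : Subgroup G) : Prop :=
  ∀ e ∈ E, ∀ f ∈ E, e ∉ Cs (Tn S E) → f ∉ Cs (Tn S E) → e * f ∈ Cs (Tn S E)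

namespace FF

variable (h : FF S E E C)
include h

theorem smallZ (hs : Small S E) {z z' : G} (hz : z ∈ E ⊓ Cs (Tn S E)) (hz' : z' ∈ E ⊓ Cs (Tn S E))
    (h1 : z ∉ C) (h2 : z' ∉ C) : z * z' ∈ C := by
  obtain ⟨g, hg, hg'⟩ := h.ess.nn
  have := hs _ (mem_normalizer_conj' hg hz.1) _ (mem_normalizer_conj' hg hz'.1)
    (fun h' => h1 (h.inf g hg hg' z hz h')) fun h' => h2 (h.inf g hg hg' z' hz' h')
  exact h.inf g hg hg' _ (mul_mem hz hz') (by simpa [mul_assoc] using this)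

theorem smallT (hs : Small S E) {s t : G} (hs' : s ∈ Tn S E) (ht : t ∈ Tn S E) (h1 : s ∉ E)
    (h2 : t ∉ E) : s * t ∈ E := by
  obtain ⟨e, he, he'⟩ := h.ne
  refine (h.nd _ (mul_mem hs' ht) e he ?_).resolve_right he'
  rw [h.cm_l hs' ht he]
  exact h.smallZ hs ⟨h.cmV ht he, h.quad t ht e he⟩ ⟨h.cmV hs' he, h.quad s hs' e he⟩
    (fun h' => (h.nd t ht e he h').elim h2 he') fun h' => (h.nd s hs' e he h').elim h1 he'

theorem cm_uniq (hs : Small S E) {s t e f : G} (hs' : s ∈ Tn S E) (ht : t ∈ Tn S E) (he : e ∈ E)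
    (hf : f ∈ E) (h1 : ⁅s, e⁆ ≠ 1) (h2 : ⁅t, f⁆ ≠ 1) : ⁅s, e⁆ = ⁅t, f⁆ := by
  have h3 := h.smallT hs (inv_mem hs') ht
    (fun h' => h1 (cm_eq_one (h.ess.mul_comm (inv_mem_iff.1 h') he)))
    fun h' => h2 (cm_eq_one (h.ess.mul_comm h' hf))
  have h4 := hs _ (inv_mem he) f hf
    (fun h' => h1 (cm_eq_one (mem_Cs.1 (inv_mem_iff.1 h') s hs')))
    fun h' => h2 (cm_eq_one (mem_Cs.1 h' t ht))
  have h5 := h.cm_l hs' (mul_mem (inv_mem hs') ht) hf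
  have h6 := h.cm_r hs' he (mul_mem (inv_mem he) hf)
  rw [mul_inv_cancel_left, cm_eq_one (h.ess.mul_comm h3 hf), one_mul] at h5
  rw [mul_inv_cancel_left, cm_eq_one (mem_Cs.1 h4 s hs'), mul_one] at h6
  rw [h5, h6]

theorem exists_big (hs : ¬ Small S E) : ∃ v ∈ E, ∃ w ∈ E, v * v = 1 ∧ w * w = 1 ∧
    v * w * (v * w) = 1 ∧ v ∉ Cs (Tn S E) ∧ w ∉ Cs (Tn S E) ∧ v * w ∉ Cs (Tn S E) := by
  simp only [Small, not_forall] at hs
  obtain ⟨e, he, f, hf, h1, h2, h3⟩ := hs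
  obtain ⟨v, hv, k1, k2⟩ := h.exists_inv he
  obtain ⟨w, hw, k3, k4⟩ := h.exists_inv hf
  refine ⟨v, hv, w, hw, k1, k3, ?_, fun h' => h1 (by simpa using mul_mem h' k2),
    fun h' => h2 (by simpa using mul_mem h' k4), fun h' => h3 ?_⟩
  · calc _ = v * (w * v) * w := by group
      _ = v * v * (w * w) := by rw [h.ess.mul_comm hw hv]; group
      _ = 1 := by rw [k1, k3, one_mul]
  · convert mul_mem (mul_mem h' k2) k4 using 1
    calc e * f = v * (v⁻¹ * e * w) * (w⁻¹ * f) := by group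
      _ = _ := by rw [h.ess.mul_comm (mul_mem (inv_mem hv) he) hw]; group

theorem cent_eq [Finite G] {v : G} (hv : v ∈ E) (hv' : v ∉ Cs (Tn S E)) : S ⊓ C1 v = E :=
  le_antisymm (fun _ hs => h.cs hs.1 hv hv' (mem_C1.1 hs.2))
    fun _ he => ⟨h.ess.le he, mem_C1.2 (h.ess.mul_comm he hv)⟩

theorem not_le_comm {A : Subgroup G} (hA : A ≤ Cs A) : ¬ Tn S E ≤ A := fun h' =>
  h.not_comm (h'.trans (hA.trans (Cs_anti h')))

end FF

theorem not_le_Ns_cj {n : G} (hn : n ∈ Ns S) (h : ¬ S ≤ Ns E) : ¬ S ≤ Ns (cj n E) := fun h' =>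
  h (by rwa [← cj_Ns, ← cj_eq_of_mem_normalizer hn, cj_le_cj] at h')

variable [Finite G]

namespace NN

variable (h : NN S E C x)
include h

omit [Finite G] in
theorem not_le : ¬ S ≤ Ns E := fun h' => h.xT ⟨h.xS, h' h.xS⟩

theorem eq_Tn (hb : ¬ Small S E) (k : NN S F D y) (hle : E ≤ Ns (Tn S F)) :
    Tn S E = Tn S F := by
  obtain ⟨v, hv, h1, h2, h3⟩ : ∃ v ∈ E, v * v = 1 ∧ v ∉ Cs (Tn S E) ∧ v ∈ Tn S F := by
    obtain ⟨v, hv, w, hw, k1, k2, k3, k4, k5, k6⟩ := h.ff.exists_big hb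
    by_cases h1 : v ∈ Tn S F
    · exact ⟨v, hv, k1, k4, h1⟩
    by_cases h2 : w ∈ Tn S F
    · exact ⟨w, hw, k2, k5, h2⟩
    refine ⟨v * w, mul_mem hv hw, k3, k6, ?_⟩
    simpa [inv_eq_of_sq k1] using
      k.idx2 ⟨h.ff.ess.le hv, hle hv⟩ h1 ⟨h.ff.ess.le hw, hle hw⟩ h2
  have h4 := h.ff.cent_eq hv h2
  by_cases h5 : v ∈ Cs (Tn S F)
  · exact absurd (fun s hs => h4.le ⟨hs.1, mem_C1.2 (mem_Cs.1 h5 s hs)⟩)
      (k.ff.not_le_comm h.ff.ess.comm)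
  rcases k.cent_eq h3 h1 h5 with h6 | h6
  · rw [← h4, h6]
  · rw [← h4, h6, k.TnB]

theorem mem_Ns_Tn (hb : ¬ Small S E) {n : G} (hn : n ∈ Ns S) (hle : E ≤ cj n (Ns (Tn S E))) :
    n ∈ Ns (Tn S E) := by
  obtain ⟨D, y, k⟩ := (h.ff.ess.conj hn).exists_nn h.ff.hyp (not_le_Ns_cj hn h.not_le)
  have := h.eq_Tn hb k (by rwa [Tn_cj hn, ← cj_Ns])
  rw [Tn_cj hn] at this
  exact cj_eq_self_iff.1 this.symm

theorem le_Ns (hb : ¬ Small S E) : S ≤ Ns (Tn S E) := by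
  by_contra h1
  obtain ⟨y, hy, hy'⟩ := SetLike.exists_of_lt (lt_inf_normalizer h.ff.hyp.syl.isPGroup
    (lt_of_le_of_ne inf_le_left fun h' : S ⊓ Ns (Tn S E) = S => h1 (h'.ge.trans inf_le_right)))
  refine hy' ⟨hy.1, h.mem_Ns_Tn hb (le_normalizer hy.1) ?_⟩
  calc E ≤ S ⊓ Ns (Tn S E) := le_inf h.ff.ess.le (h.ff.ess.le_Tn.trans le_normalizer)
    _ = cj y (S ⊓ Ns (Tn S E)) := (cj_eq_of_mem_normalizer hy.2).symm
    _ ≤ _ := cj_mono y inf_le_right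

theorem Ns_le (hb : ¬ Small S E) : Ns S ≤ Ns (Tn S E) := fun n hn =>
  h.mem_Ns_Tn hb hn ((h.ff.ess.le.trans (cj_eq_of_mem_normalizer hn).ge).trans
    (cj_mono n (h.le_Ns hb)))

theorem le_of_normal (hb : ¬ Small S E) (hF : Ess S F) (hn : S ≤ Ns F) : F ≤ Tn S E := by
  intro a ha
  by_contra haT
  have haS := hF.le ha
  have hB := h.swap haS (h.le_Ns hb haS) haT
  have key : ∀ e ∈ E, e * e = 1 → e ∉ Cs (Tn S E) → a * e * a⁻¹ * (a * a) ∈ E := by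
    intro e he h1 h2
    have heS := h.ff.ess.le he
    have h3 := hF.mul_comm ha (mul_mem (mem_normalizer_conj (hn heS) ha) (inv_mem ha))
    rw [inv_eq_of_sq h1] at h3
    refine h.ff.cs (mul_mem (mul_mem (mul_mem haS heS) (inv_mem haS)) (mul_mem haS haS)) he h2 ?_
    calc _ = a * (e * a * e * a⁻¹) * a := by group
      _ = _ := by rw [h3]; group
  obtain ⟨v, hv, w, hw, k1, k2, -, k4, k5, k6⟩ := h.ff.exists_big hb
  have h1 := mul_mem (key v hv k1 k4) (inv_mem (key w hw k2 k5))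
  rw [show a * v * a⁻¹ * (a * a) * (a * w * a⁻¹ * (a * a))⁻¹ = a * (v * w⁻¹) * a⁻¹ by group,
    inv_eq_of_sq k2] at h1
  have h2 := h.inter h1 (hB ▸ conj_mem_cj.2 (mul_mem hv hw))
  exact k6 (by simpa [mul_assoc] using mem_normalizer_conj' (mem_Ns_Cs (h.le_Ns hb haS)) h2)

theorem le_of_small (hb : ¬ Small S E) (k : NN S F D y) (hs : Small S F) : F ≤ Tn S E := by
  by_contra hFT
  obtain ⟨a₀, ha₀, ha₀'⟩ := k.ff.ne
  obtain ⟨a, ha, a1, a2⟩ := k.ff.exists_inv ha₀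
  have a3 : a ∉ Cs (Tn S F) := fun h' => ha₀' (by simpa using mul_mem h' a2)
  have a4 := k.ff.cent_eq ha a3
  have haS := k.ff.ess.le ha
  have haT : a ∉ Tn S E := fun h' => by
    by_cases h1 : a ∈ Cs (Tn S E)
    · exact h.ff.not_le_comm k.ff.ess.comm fun s hs => a4.le ⟨hs.1, mem_C1.2 (mem_Cs.1 h1 s hs)⟩
    rcases h.cent_eq h' a1 h1 with h2 | h2
    · exact hFT (a4.ge.trans (h2.le.trans h.ff.ess.le_Tn))
    · exact hFT (a4.ge.trans (h2.le.trans h.Ble))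
  have hB := h.swap haS (h.le_Ns hb haS) haT
  have hT : ∀ e ∈ E, a * e * a⁻¹ ∈ Tn S E := fun e he => h.Ble (hB ▸ conj_mem_cj.2 he)
  have ai := inv_eq_of_sq a1
  have key : ∀ e ∈ E, e * e = 1 → e ∉ Cs (Tn S E) → e * (a * e * a⁻¹) ∈ Tn S F ∧
      e * (a * e * a⁻¹) * (e * (a * e * a⁻¹)) ∉ D := by
    intro e he h1 h2
    have ei := inv_eq_of_sq h1
    set d := e * (a * e * a⁻¹) with hd
    have hdS : d ∈ S := mul_mem (h.ff.ess.le he) (hT e he).1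
    have h3 : a * d * a⁻¹ = d⁻¹ := by
      rw [hd]
      calc _ = a * e * a * e * (a * a)⁻¹ := by group
        _ = _ := by rw [a1]; simp only [mul_inv_rev, ei, ai]; group
    have h4 : ⁅a * e * a⁻¹, e⁆ = d⁻¹ * d⁻¹ := by
      rw [hd]
      simp only [commutatorElement_def, mul_inv_rev, ei, ai]
      group
    have h5 := h.ff.cm_sq_one (hT e he) he
    rw [h4] at h5
    have h6 : d * d = d⁻¹ * d⁻¹ := by
      rw [← inv_eq_of_sq h5, mul_inv_rev, inv_inv]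
    have h7 : ⁅d, a⁆ = d * d := by
      calc _ = d * (a * d * a⁻¹)⁻¹ := by simp only [commutatorElement_def]; group
        _ = _ := by rw [h3, inv_inv]
    have h8 : d * d ∈ F := a4.le ⟨mul_mem hdS hdS, mem_C1.2 (by
      calc d * d * a = a * (a⁻¹ * d * a⁻¹⁻¹ * (a⁻¹ * d * a⁻¹⁻¹)) := by group
        _ = _ := by rw [ai, h3, ← h6])⟩
    have h9 : d ∈ Tn S F := by
      refine mem_inf.2 ⟨hdS, inv_mem_iff.1 (mem_normalizer_of_cj_le (cj_le_iff.2 fun f hf => a4.le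
        (mem_inf.2 ⟨mul_mem (mul_mem (inv_mem hdS) (k.ff.ess.le hf)) (inv_mem (inv_mem hdS)),
          mem_C1.2 ?_⟩)))⟩
      have := k.ff.ess.mul_comm hf (mul_mem h8 ha)
      rw [← h7, ← conj_eq_cm] at this
      calc _ = d⁻¹ * (f * (d * a * d⁻¹)) * d := by group
        _ = _ := by rw [this]; group
    refine ⟨h9, fun h' => ?_⟩
    have h10 := (k.ff.nd d h9 a ha (h7 ▸ h')).resolve_right a3
    rw [h6, ← h4] at h7
    rw [cm_eq_one (k.ff.ess.mul_comm h10 ha)] at h7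
    have h11 := h.ff.mem_of_comm (hT e he) he h2
      (commutatorElement_eq_one_iff_mul_comm.1 h7.symm)
    have h12 := h.inter h11 (hB ▸ conj_mem_cj.2 he)
    exact h2 (by simpa [mul_assoc] using mem_normalizer_conj' (mem_Ns_Cs (h.le_Ns hb haS)) h12)
  obtain ⟨v, hv, w, hw, k1, k2, k3, k4, k5, k6⟩ := h.ff.exists_big hb
  obtain ⟨p1, p2⟩ := key v hv k1 k4
  obtain ⟨q1, q2⟩ := key w hw k2 k5
  obtain ⟨r1, r2⟩ := key _ (mul_mem hv hw) k3 k6
  have c1 := h.ff.quad _ (hT v hv) w hw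
  have c2 := h.ff.cm_sq_one (hT v hv) hw
  set κ := ⁅a * v * a⁻¹, w⁆ with hκ
  have c3 : v * (a * v * a⁻¹) * (w * (a * w * a⁻¹)) = κ * (v * w * (a * (v * w) * a⁻¹)) := by
    calc _ = v * κ * (w * (a * (v * w) * a⁻¹)) := by
          rw [hκ]; simp only [commutatorElement_def]; group
      _ = _ := by rw [mem_Cs.1 c1 v (h.ff.ess.le_Tn hv)]; group
  have c4 := k.ff.smallT hs p1 q1 (fun h' => p2 (k.ff.sqC h')) fun h' => q2 (k.ff.sqC h')
  have c5 : κ ∈ Tn S F := (Tn S F).mul_mem_cancel_right r1 |>.1 (c3 ▸ mul_mem p1 q1)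
  have c6 : κ ∉ F := fun h' => r2 (k.ff.sqC (F.mul_mem_cancel_left h' |>.1 (c3 ▸ c4)))
  have c7 := k.ff.sqC (k.ff.smallT hs c5 p1 c6 fun h' => p2 (k.ff.sqC h'))
  refine p2 ?_
  convert c7 using 1
  have c8 := mem_Cs.1 c1 _ (mul_mem (h.ff.ess.le_Tn hv) (hT v hv))
  calc _ = κ * κ * (v * (a * v * a⁻¹) * (v * (a * v * a⁻¹))) := by rw [c2, one_mul]
    _ = κ * (κ * (v * (a * v * a⁻¹))) * (v * (a * v * a⁻¹)) := by group
    _ = κ * (v * (a * v * a⁻¹) * κ) * (v * (a * v * a⁻¹)) := by rw [c8]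
    _ = _ := by group

theorem small (hG : pResidual 2 G = ⊤) : Small S E := by
  by_contra hb
  refine h.not_le ((h.ff.hyp.le_of_focal hG (Tn S E) (fun n hn s hs => ?_)
    fun F hF n hn f hf => ?_).trans inf_le_right)
  · have hs' := mem_normalizer_conj hn hs
    by_cases h1 : s ∈ Tn S E
    · exact mul_mem (inv_mem h1) (mem_normalizer_conj (h.Ns_le hb hn) h1)
    · exact h.idx2 ⟨hs, h.le_Ns hb hs⟩ h1 ⟨hs', h.le_Ns hb hs'⟩ fun h' =>
        h1 (by simpa [mul_assoc] using mem_normalizer_conj' (h.Ns_le hb hn) h')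
  · suffices F ≤ Tn S E from this (mul_mem (inv_mem hf) (mem_normalizer_conj hn hf))
    by_cases h1 : S ≤ Ns F
    · exact h.le_of_normal hb hF h1
    obtain ⟨D, y, k⟩ := hF.exists_nn h.ff.hyp h1
    by_cases h2 : Small S F
    · exact h.le_of_small hb k h2
    · exact hF.le_Tn.trans (h.eq_Tn hb k (h.ff.ess.le.trans (k.le_Ns h2))).ge

end NN

end Cfsg.Lib.Gold.AI
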