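import Cfsg.Agent.Gold.AIOm
import Cfsg.Agent.Local.Dihedral

/-!
# The dihedral subgroup generated by the involutions `Om S`
-/

set_option autoImplicit false

namespace Cfsg.Lib.Gold.AI

open Subgroup Cfsg.Lib.Trans Cfsg.Lib.Local
open scoped commutatorElement

universe u

variable {G : Type u} [Group G] {S E C : Subgroup G} {x w v t : G}

/-- Two involutions of `Om S` whose product has maximal order. -/
structure Dh (S : Subgroup G) (w v : G) (E C : Subgroup G) (t x : G) : Prop where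
  res : pResidual 2 G = ⊤
  od : OD S w E C t x
  ov : Om S v
  v2 : v * v = 1
  nc : w * v * (w * v) ≠ 1
  max : ∀ a b, Om S a → Om S b → orderOf (a * b) ≤ orderOf (w * v)

variable [Finite G]

theorem exists_dh (h : Hyp S) (hG : pResidual 2 G = ⊤) {a : G} (ha : Om S a) :
    ∃ w v E C t x, Dh S w v E C t x := by
  obtain ⟨⟨w, v⟩, ⟨hw, hv⟩, hmax⟩ := Set.exists_max_image {p : G × G | Om S p.1 ∧ Om S p.2}
    (fun p => orderOf (p.1 * p.2)) (Set.toFinite _) ⟨(a, a), ha, ha⟩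
  obtain ⟨E, C, t, x, o⟩ := hw.exists_od h hG
  obtain ⟨_, _, _, _, o'⟩ := hv.exists_od h hG
  refine ⟨w, v, E, C, t, x, hG, o, hv, o'.w2, fun h1 => ?_, fun a b ha hb => hmax (a, b) ⟨ha, hb⟩⟩
  obtain ⟨b, hb, h2⟩ := o.exists_not_comm
  obtain ⟨_, _, _, _, o''⟩ := hb.exists_od h hG
  have h3 : orderOf (w * b) ≤ 2 := (hmax (w, b) ⟨hw, hb⟩).trans
    (orderOf_le_of_pow_eq_one two_pos (by rw [sq]; exact h1))
  have h4 : (w * b) ^ 2 = 1 := by
    have := orderOf_pos (w * b)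
    refine orderOf_dvd_iff_pow_eq_one.1 ?_
    obtain h5 | h5 : orderOf (w * b) = 1 ∨ orderOf (w * b) = 2 := by omega
    all_goals simp [h5]
  rw [sq] at h4
  exact h2 (by rw [← inv_eq_of_sq h4, mul_inv_rev, inv_eq_of_sq o.w2, inv_eq_of_sq o''.w2])

namespace Dh

variable (d : Dh S w v E C t x)
include d

omit [Finite G] in
theorem hyp : Hyp S := d.od.nn.ff.hyp

omit [Finite G] in
theorem inv : w * (w * v) * w⁻¹ = (w * v)⁻¹ := dih_inverts d.od.w2 d.v2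

omit [Finite G] in
theorem ρS : w * v ∈ S := mul_mem d.od.om.mem d.ov.mem

omit [Finite G] in
theorem le : closure {w, v} ≤ S := (closure_le _).2 (by
  rintro _ (rfl | rfl)
  exacts [d.od.om.mem, d.ov.mem])

omit [Finite G] d in
theorem wD : w ∈ closure ({w, v} : Set G) := subset_closure (.inl rfl)

omit [Finite G] d in
theorem ρD (k : ℤ) : (w * v) ^ k ∈ closure ({w, v} : Set G) :=
  zpow_mem (mul_mem wD (subset_closure (.inr rfl))) k

omit [Finite G] in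
theorem form {y : G} (hy : y ∈ closure ({w, v} : Set G)) :
    ∃ k : ℤ, y = (w * v) ^ k ∨ y = w * (w * v) ^ k := dih_mem_closure_form d.od.w2 d.v2 hy

omit [Finite G] in
theorem om (k : ℤ) : Om S (w * (w * v) ^ k) := by
  rcases Int.even_or_odd' k with ⟨j, rfl | rfl⟩
  · have := d.od.om.conj (le_normalizer (zpow_mem d.ρS (-j)))
    rwa [dih_conj d.inv, mul_neg, neg_neg] at this
  · have := d.ov.conj (le_normalizer (zpow_mem d.ρS (-j)))
    rw [dih_conj (dih_inverts' d.od.w2 d.v2), mul_neg, neg_neg] at this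
    rwa [add_comm, zpow_one_add, ← mul_assoc, ← mul_assoc, d.od.w2, one_mul]

omit [Finite G] in
theorem comm_w {k : ℤ} : w * (w * v) ^ k = (w * v) ^ k * w ↔ (w * v) ^ k * (w * v) ^ k = 1 := by
  rw [dih_zpow_mul d.inv, mul_right_inj, zpow_neg, eq_inv_iff_mul_eq_one]

omit [Finite G] in
theorem eq_t {k : ℤ} (h : (w * v) ^ k * (w * v) ^ k = 1) : (w * v) ^ k = 1 ∨ (w * v) ^ k = t := by
  refine (d.od.uniq _ (d.om k) (by rw [mul_assoc, d.comm_w.2 h])).imp (fun h1 => ?_) fun h1 => ?_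
  · rwa [mul_eq_left] at h1
  · rwa [d.od.comm, mul_right_inj] at h1

omit [Finite G] in
theorem mem_Cs_D {y : G} (h1 : y * w = w * y) (h2 : y * (w * v) = w * v * y) :
    y ∈ Cs (closure ({w, v} : Set G)) := by
  refine mem_Cs.2 fun z hz => ?_
  obtain ⟨k, rfl | rfl⟩ := d.form hz
  · exact (Commute.zpow_right h2 k).eq.symm
  · exact (Commute.mul_right h1 (Commute.zpow_right h2 k)).eq.symm

omit [Finite G] in
theorem cent {k : ℤ} (h : (w * v) ^ k * (w * v) ^ k = 1) :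
    (w * v) ^ k ∈ Cs (closure ({w, v} : Set G)) :=
  d.mem_Cs_D (d.comm_w.2 h).symm (Commute.zpow_self _ k)

omit [Finite G] in
theorem exists_four {k : ℤ} (h : (w * v) ^ k * (w * v) ^ k ≠ 1) :
    ∃ j : ℕ, ((w * v) ^ k) ^ j * ((w * v) ^ k) ^ j = t := by
  have h1 := zpow_mem d.ρS k
  obtain ⟨m, hm⟩ := d.hyp.exists_pow (mul_mem h1 h1)
  obtain ⟨j, h2, h3⟩ := exists_pow_sq_mem (H := ⊥) hm h
  rw [mem_bot, ← zpow_add, ← zpow_natCast, ← zpow_mul] at h2 h3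
  refine ⟨2 ^ j, ?_⟩
  rw [← (d.eq_t h3).resolve_left h2, ← zpow_natCast, ← zpow_mul, ← zpow_add, add_mul]

omit [Finite G] in
theorem exists_t : ∃ k : ℤ, t = (w * v) ^ k := by
  obtain ⟨j, h⟩ := d.exists_four (k := 1) (by simpa using d.nc)
  exact ⟨j + j, by rw [← h, zpow_one, zpow_add, zpow_natCast]⟩

omit [Finite G] in
theorem tD : t ∈ closure ({w, v} : Set G) := by
  obtain ⟨k, h⟩ := d.exists_t
  exact h ▸ ρD k

theorem four_mem {k : ℤ} (h : (w * v) ^ k * (w * v) ^ k = t) : (w * v) ^ k ∈ Tn S E := by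
  refine ⟨zpow_mem d.ρS k, d.od.mem_Ns (zpow_mem d.ρS k) (.inr ?_)⟩
  rw [dih_conj d.inv, zpow_neg, two_mul, zpow_add, h, inv_eq_of_sq d.od.t2, d.od.comm]

omit [Finite G] in
theorem conj_w {g : G} (hg : g ∈ Ns (closure ({w, v} : Set G))) :
    ∃ k : ℤ, g * w * g⁻¹ = w * (w * v) ^ k := by
  obtain ⟨k, h | h⟩ := d.form (mem_normalizer_conj hg wD)
  · have h1 := d.cent (k := k) (by rw [← h, conj_mul, d.od.w2]; group)
    have h2 := mem_normalizer_conj' (mem_Ns_Cs hg) h1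
    rw [← h, show g⁻¹ * (g * w * g⁻¹) * g = w by group] at h2
    have h3 := mem_Cs.1 h2 _ (ρD 1)
    exact absurd (by simpa using d.comm_w.1 h3.symm) d.nc
  · exact ⟨k, h⟩

theorem inf_C {y : G} (hy : y ∈ closure ({w, v} : Set G)) (hc : y ∈ C) : y = 1 := by
  have h1 := d.od.nn.ff.cle hc
  obtain ⟨k, rfl | rfl⟩ := d.form hy
  · exact (d.eq_t (d.comm_w.1 (d.od.nn.ff.ess.mul_comm d.od.wE h1.1))).resolve_right
      fun h' => d.od.tC (h' ▸ hc)
  · exact absurd h1.2 ((d.om k).not_mem_Cs d.hyp d.res d.od.nn.ff)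

theorem even_of {a : G} (ha : Om S a) {k : ℤ} (h : a * w * a⁻¹ = w * (w * v) ^ k) : Even k := by
  obtain ⟨_, _, _, _, o⟩ := ha.exists_od d.hyp d.res
  have h1 : (w * a) ^ 2 = (w * v) ^ k := by
    calc _ = w * (a * w * a⁻¹) := by rw [inv_eq_of_sq o.w2, sq]; group
      _ = _ := by rw [h, ← mul_assoc, d.od.w2, one_mul]
  obtain ⟨m, hm⟩ := (IsPGroup.iff_orderOf.1 d.hyp.syl.isPGroup) ⟨_, d.ρS⟩
  obtain ⟨l, hl⟩ := (IsPGroup.iff_orderOf.1 d.hyp.syl.isPGroup) ⟨_, mul_mem d.od.om.mem ha.mem⟩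
  rw [orderOf_mk] at hm hl
  have h2 := d.max w a d.od.om ha
  rw [hm, hl, Nat.pow_le_pow_iff_right one_lt_two] at h2
  obtain rfl | ⟨n, rfl⟩ := m.eq_zero_or_eq_succ_pred.imp_right fun h' => (⟨_, h'⟩ : ∃ n, m = n + 1)
  · rw [pow_zero, orderOf_eq_one_iff] at hm
    exact absurd (by rw [hm, one_mul]) d.nc
  have h3 : (w * a) ^ 2 ^ (n + 1) = 1 := orderOf_dvd_iff_pow_eq_one.1 (hl ▸ pow_dvd_pow 2 h2)
  rw [pow_succ', pow_mul, h1, ← zpow_natCast, ← zpow_mul, ← orderOf_dvd_iff_zpow_eq_one, hm,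
    pow_succ'] at h3
  push_cast at h3
  exact even_iff_two_dvd.2 ((mul_dvd_mul_iff_right (by positivity)).1 h3)

theorem mem_of_Ns {a : G} (ha : Om S a) (hn : a ∈ Ns (closure ({w, v} : Set G))) :
    a ∈ closure ({w, v} : Set G) := by
  obtain ⟨_, _, _, _, o⟩ := ha.exists_od d.hyp d.res
  obtain ⟨k, hk⟩ := d.conj_w hn
  obtain ⟨j, rfl⟩ := d.even_of ha hk
  have h1 : (w * v) ^ j * a ∈ E := by
    refine d.od.nn.ff.cs (mul_mem (zpow_mem d.ρS j) ha.mem) d.od.wE d.od.wZ ?_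
    calc _ = (w * v) ^ j * (a * w * a⁻¹) * a := by group
      _ = (w * v) ^ j * w * (w * v) ^ j * ((w * v) ^ j * a) := by rw [hk]; group
      _ = _ := by rw [dih_zpow_mul d.inv]; group
  obtain ⟨y, hy, c, hc, rfl⟩ : ∃ y ∈ closure ({w, v} : Set G), ∃ c ∈ C, a = y * c := by
    obtain ⟨c, hc, h2⟩ := d.od.decomp h1
    have h3 : a = (w * v) ^ (-j) * ((w * v) ^ j * a) := by group
    rcases h2 with h2 | h2 | h2 | h2 <;> rw [h2] at h3
    · exact ⟨_, ρD _, c, hc, h3⟩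
    · exact ⟨_, mul_mem (ρD _) d.tD, c, hc, by rw [h3, mul_assoc]⟩
    · exact ⟨_, mul_mem (ρD _) wD, c, hc, by rw [h3, mul_assoc]⟩
    · exact ⟨_, mul_mem (ρD (-j)) (mul_mem d.tD wD), c, hc, h3.trans (mul_assoc _ _ _).symm⟩
  have hcN : c ∈ Ns (closure ({w, v} : Set G)) := by
    simpa using mul_mem (inv_mem (le_normalizer hy)) hn
  have h2 : c * c = 1 := d.inf_C (by
    have := inv_mem (mul_mem hy (mem_normalizer_conj hcN hy))
    rwa [show y * (c * y * c⁻¹) = y * c * (y * c) * (c * c)⁻¹ by group, o.w2, one_mul,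
      inv_inv] at this) (mul_mem hc hc)
  have h3 : c * y * c⁻¹ = y⁻¹ := by
    calc _ = y⁻¹ * (y * c * (y * c)) * (c * c)⁻¹ := by group
      _ = _ := by rw [o.w2, h2]; group
  have hcZ := (d.od.nn.ff.cle hc).2
  obtain ⟨i, rfl | rfl⟩ := d.form hy
  · exfalso
    by_cases h4 : (w * v) ^ i * (w * v) ^ i = 1
    · refine ha.not_mem_Cs d.hyp d.res d.od.nn.ff (mul_mem ?_ hcZ)
      rcases d.eq_t h4 with h5 | h5 <;> rw [h5]
      exacts [one_mem _, d.od.tZ.2]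
    · obtain ⟨n, h5⟩ := d.exists_four h4
      have h6 : c * ((w * v) ^ i) ^ n * c⁻¹ = (((w * v) ^ i) ^ n)⁻¹ := by
        rw [← conj_pow, h3, inv_pow]
      rw [← zpow_natCast, ← zpow_mul] at h5 h6
      rw [conj_of_comm (mem_Cs.1 hcZ _ (d.four_mem h5)).symm, eq_inv_iff_mul_eq_one, h5] at h6
      exact d.od.t_ne h6
  · obtain ⟨_, _, t', _, o'⟩ := (d.om i).exists_od d.hyp d.res
    rw [inv_eq_of_sq o'.w2, mul_inv_eq_iff_eq_mul] at h3
    obtain ⟨n, hn'⟩ := d.exists_t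
    have h4 : Om S (w * (w * v) ^ i * t) := by
      rw [hn', mul_assoc, ← zpow_add]; exact d.om _
    have h5 := mem_Cs.1 (hn' ▸ d.cent (k := n) (hn' ▸ d.od.t2)) _ hy
    have h6 := (o'.uniq _ h4 (by rw [mul_assoc _ t, h5])).resolve_left fun h' =>
      d.od.t_ne (mul_eq_left.1 h')
    rcases o'.uniq _ ha (by rw [mul_assoc _ c, h3]) with h7 | h7 <;> rw [h7]
    · exact hy
    · exact h6 ▸ mul_mem hy d.tD

theorem le_Ns : S ≤ Ns (closure ({w, v} : Set G)) := by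
  by_contra h1
  obtain ⟨y, hy, hy'⟩ := SetLike.exists_of_lt (lt_inf_normalizer d.hyp.syl.isPGroup
    (lt_of_le_of_ne inf_le_left fun h' : S ⊓ Ns (closure ({w, v} : Set G)) = S =>
      h1 (h'.ge.trans inf_le_right)))
  refine hy' ⟨hy.1, mem_normalizer_of_cj_le (cj_le_iff_le_cj_inv.2 ((closure_le _).2 ?_))⟩
  have key : ∀ a, Om S a → a ∈ closure ({w, v} : Set G) →
      a ∈ cj y⁻¹ (closure ({w, v} : Set G)) := fun a ha haD =>
    mem_cj_inv.2 (d.mem_of_Ns (ha.conj (le_normalizer hy.1))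
      (mem_normalizer_conj hy.2 (mem_inf.2 ⟨ha.mem, le_normalizer haD⟩)).2)
  rintro _ (rfl | rfl)
  exacts [key _ d.od.om wD, key _ d.ov (subset_closure (.inr rfl))]

theorem mem_D {a : G} (ha : Om S a) : a ∈ closure ({w, v} : Set G) :=
  d.mem_of_Ns ha (d.le_Ns ha.mem)

theorem Ns_le : Ns S ≤ Ns (closure ({w, v} : Set G)) := fun n hn =>
  mem_normalizer_of_cj_le (cj_le_iff_le_cj_inv.2 ((closure_le _).2 (by
    rintro _ (rfl | rfl)
    exacts [mem_cj_inv.2 (d.mem_D (d.od.om.conj hn)), mem_cj_inv.2 (d.mem_D (d.ov.conj hn))])))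

theorem odd {o : G} (hn : o ∈ Ns S) (ho : (orderOf o).Coprime 2) :
    o ∈ Cs (closure ({w, v} : Set G)) := by
  have hP := d.hyp.syl.isPGroup.to_le (zpowers_le.2 d.ρS)
  have h1 : o ∈ Ns (zpowers (w * v)) := by
    refine mem_normalizer_of_cj_le ?_
    rw [cj_zpowers, zpowers_le]
    obtain ⟨k, h | h⟩ := d.form (mem_normalizer_conj (d.Ns_le hn) (ρD 1))
    · exact ⟨k, by simpa using h.symm⟩
    · obtain ⟨_, _, _, _, o'⟩ := (d.om k).exists_od d.hyp d.res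
      have := o'.w2
      rw [← h, conj_mul, zpow_one, conj_eq_one_iff] at this
      exact absurd this d.nc
  have h2 : o ∈ Cs (zpowers (w * v)) := by
    refine mem_Cs_of_omega hP (by rw [Cs_zpowers, zpowers_le, mem_C1]) ho h1 ?_
    rintro _ ⟨k, rfl⟩ h
    obtain ⟨l, hl⟩ := mem_normalizer_conj h1 (⟨k, rfl⟩ : (w * v) ^ k ∈ zpowers (w * v))
    beta_reduce at h hl ⊢
    rcases d.eq_t h with h3 | h3
    · simp [h3]
    · rw [← hl, h3]
      refine (d.eq_t (by rw [hl, conj_mul, h]; group)).resolve_left fun h' => d.od.t_ne ?_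
      rwa [hl, conj_eq_one_iff, h3] at h'
  obtain ⟨k, hk⟩ := d.conj_w (d.Ns_le hn)
  have h3 := conj_eq_of_coprime_of_two_step hP ho h2 (u := w) (by
    rw [hk, inv_mul_cancel_left]; exact ⟨k, rfl⟩)
  exact d.mem_Cs_D (mul_inv_eq_iff_eq_mul.1 h3) (mem_Cs.1 h2 _ (mem_zpowers _)).symm

end Dh

end Cfsg.Lib.Gold.AI
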