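import Cfsg.Agent.Gold.AIDih
import Cfsg.Agent.Local.AmalgamVIter
import Cfsg.Agent.Trans.Quasisimple

/-!
# Groups with abelian Sylow 2-intersections: the Sylow 2-subgroup is dihedral or of class two
-/

set_option autoImplicit false

namespace Cfsg.Lib.Gold.AI

open Subgroup Cfsg.Lib.Trans Cfsg.Lib.Local
open scoped commutatorElement

universe u

variable {G : Type u} [Group G] [Finite G] {S E C F : Subgroup G} {x w v t : G}

namespace Dh

variable (d : Dh S w v E C t x)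
include d

theorem exists_od (hF : Ess S F) : ∃ a B r y, OD S a F B r y :=
  hF.exists_od d.hyp d.res (d.od.no_normal hF)

theorem split {a r y : G} {B : Subgroup G} (o : OD S a F B r y) {e : G} (he : e ∈ F) :
    ∃ c ∈ B, ∃ u ∈ F, e = u * c ∧ ∀ n ∈ Ns F, n * u * n⁻¹ ∈ closure ({w, v} : Set G) := by
  have h1 : ∀ n ∈ Ns F, n * r * n⁻¹ ∈ closure ({w, v} : Set G) := fun n hn => by
    rcases o.cjt n hn with h | h
    · rw [h]
      simpa using mul_mem (d.mem_D o.tw) (inv_mem (d.mem_D o.om))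
    · exact d.mem_D h
  have h2 : ∀ n ∈ Ns F, n * a * n⁻¹ ∈ closure ({w, v} : Set G) := fun n hn => by
    obtain ⟨g, hg, h⟩ := o.wt
    simpa [h, mul_assoc] using h1 _ (mul_mem hn hg)
  obtain ⟨c, hc, h | h | h | h⟩ := o.decomp he
  · exact ⟨c, hc, 1, one_mem _, by rw [one_mul, h], fun n _ => by simp⟩
  · exact ⟨c, hc, r, o.tZ.1, h, h1⟩
  · exact ⟨c, hc, a, o.wE, h, h2⟩
  · exact ⟨c, hc, r * a, mul_mem o.tZ.1 o.wE, h, fun n hn => by
      rw [← conj_mul]; exact mul_mem (h1 n hn) (h2 n hn)⟩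

theorem fus {a r y : G} {B : Subgroup G} (o : OD S a F B r y) {n e : G} (hn : n ∈ Ns F)
    (he : e ∈ F) : ∃ m ∈ Ns S, ∃ c ∈ B, ∃ z ∈ closure ({w, v} : Set G),
      e⁻¹ * (n * e * n⁻¹) = z * (c⁻¹ * (m * c * m⁻¹)) := by
  obtain ⟨c, hc, u, hu, rfl, h1⟩ := d.split o he
  obtain ⟨m, hm, h2⟩ := o.nn.ff.conjC hn
  refine ⟨m, hm, c, hc, u⁻¹ * (n * u * n⁻¹),
    mul_mem (inv_mem (by simpa using h1 1 (one_mem _))) (h1 n hn), ?_⟩
  rw [← h2 c hc]
  have := o.nn.ff.ess.mul_comm (inv_mem (o.nn.ff.cle hc).1)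
    (mul_mem (inv_mem hu) (mem_normalizer_conj hn hu))
  calc _ = c⁻¹ * (u⁻¹ * (n * u * n⁻¹)) * (n * c * n⁻¹) := by group
    _ = _ := by rw [this]; group

theorem Ns_le_X : Ns S ≤ Ns (S ⊓ Cs (closure ({w, v} : Set G))) := fun _ hn =>
  mem_Ns_inf hn (mem_Ns_Cs (d.Ns_le hn))

theorem exists_mul {s : G} (hs : s ∈ S) : ∃ y ∈ closure ({w, v} : Set G),
    ∃ z ∈ S ⊓ Cs (closure ({w, v} : Set G)), y * z = s := by
  set D := closure ({w, v} : Set G)
  have key : ∀ n ∈ Ns S, ∀ a ∈ S, a⁻¹ * (n * a * n⁻¹) ∈ D ⊔ S ⊓ Cs D ⊔ ⁅S, S⁆ := by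
    intro n hn a ha
    obtain ⟨s, hs, o, ho, ho', rfl⟩ := d.hyp.decomp hn
    have h1 := mem_normalizer_conj ho ha
    have h2 : a⁻¹ * (o * a * o⁻¹) ∈ S ⊓ Cs D := mem_inf.2 ⟨mul_mem (inv_mem ha) h1, by
      simpa [mul_assoc] using mul_mem
        (mem_normalizer_conj' (mem_Ns_Cs (d.le_Ns ha)) (d.odd ho ho')) (inv_mem (d.odd ho ho'))⟩
    convert mul_mem (mem_sup_left (mem_sup_right h2))
      (mem_sup_right (commutator_mem_commutator (inv_mem h1) hs)) using 1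
    simp only [commutatorElement_def]
    group
  have h1 := d.hyp.le_of_focal d.res _ key fun F hF n hn e he => by
    obtain ⟨a, B, r, y, o⟩ := d.exists_od hF
    obtain ⟨m, hm, c, hc, z, hz, h⟩ := d.fus o hn he
    exact h ▸ mul_mem (mem_sup_left (mem_sup_left hz)) (key m hm c (hF.le (o.nn.ff.cle hc).1))
  exact (mem_sup_of_le_normalizer (inf_le_right.trans Cs_le_Ns)).1
    (Amal.le_of_le_sup_commutator d.hyp.syl.isPGroup (sup_le d.le inf_le_left) le_rfl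
      (le_Ns_sup d.le_Ns (le_normalizer.trans d.Ns_le_X)) h1 hs)

theorem X_le : S ⊓ Cs (closure ({w, v} : Set G)) ≤ Cs S := by
  have h1 : S ⊓ Cs (closure ({w, v} : Set G)) ≤ E := fun z hz =>
    d.od.nn.ff.cs hz.1 d.od.wE d.od.wZ (mem_Cs.1 hz.2 w wD).symm
  refine fun z hz => mem_Cs.2 fun s hs => ?_
  obtain ⟨y, hy, z', hz', rfl⟩ := d.exists_mul hs
  rw [mul_assoc, d.od.nn.ff.ess.mul_comm (h1 hz') (h1 hz), ← mul_assoc, mem_Cs.1 hz.2 y hy,
    mul_assoc]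

theorem le_X {a r y : G} {B : Subgroup G} (o : OD S a F B r y) :
    B ≤ S ⊓ Cs (closure ({w, v} : Set G)) := by
  intro c hc
  have h1 := o.nn.ff.cle hc
  obtain ⟨z, hz, z', hz', rfl⟩ := d.exists_mul (o.nn.ff.ess.le h1.1)
  have h2 : z ∈ Cs (Tn S F) :=
    (Cs (Tn S F)).mul_mem_cancel_right (Cs_anti inf_le_left (d.X_le hz')) |>.1 h1.2
  refine mul_mem (mem_inf.2 ⟨d.le hz, ?_⟩) hz'
  obtain ⟨k, rfl | rfl⟩ := d.form hz
  · have h3 := mem_Cs.1 h2 a (o.nn.ff.ess.le_Tn o.wE)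
    obtain ⟨j, h4 | h4⟩ := d.form (d.mem_D o.om)
    · exact absurd (Cs_anti inf_le_left (d.X_le ⟨o.om.mem, h4 ▸ d.cent (h4 ▸ o.w2)⟩)) o.wZ
    · refine d.cent (d.comm_w.1 ?_)
      rw [h4, mul_assoc, zpow_mul_comm, ← mul_assoc, ← mul_assoc] at h3
      exact mul_right_cancel h3
  · exact absurd h2 ((d.om k).not_mem_Cs d.hyp d.res o.nn.ff)

theorem comm_le {a r y : G} {B : Subgroup G} (o : OD S a F B r y) :
    ⁅S ⊓ Cs (closure ({w, v} : Set G)), Ns S⁆ ≤ B := by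
  refine commutator_le.2 fun z hz n hn => ?_
  obtain ⟨s, hs, p, hp, hp', rfl⟩ := d.hyp.decomp hn
  have h1 := d.odd hp hp'
  have hpF : p ∈ Ns F := by
    rw [← o.nn.ff.cent_eq o.wE o.wZ]
    exact mem_Ns_inf hp (mem_Ns_C1 (mem_Cs.1 h1 a (d.mem_D o.om)).symm)
  have hzF := o.nn.ff.ess.Cs_Tn hz.1 (Cs_anti inf_le_left (d.X_le hz))
  obtain ⟨c, hc, u, hu, rfl, h2⟩ := d.split o hzF
  have h3 := conj_eq_of_mem_centralizer h1 (show u ∈ closure ({w, v} : Set G) by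
    simpa using h2 1 (one_mem _))
  have h4 := conj_of_comm (mem_Cs.1 (d.X_le (mem_normalizer_conj (d.Ns_le_X hp) (inv_mem hz))) s hs)
  convert mem_normalizer_conj (o.nn.ff.cnorm (le_normalizer hu))
    (mul_mem hc (mem_normalizer_conj (o.nn.ff.cnorm hpF) (inv_mem hc))) using 1
  calc _ = u * c * (s * (p * (u * c)⁻¹ * p⁻¹) * s⁻¹) := by
        simp only [commutatorElement_def]; group
    _ = u * c * (p * c⁻¹ * p⁻¹) * (p * u * p⁻¹)⁻¹ := by rw [h4]; group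
    _ = _ := by rw [h3]; group

theorem eq (hS : NoSC S) : S = closure {w, v} := by
  have hX : ⁅S ⊓ Cs (closure ({w, v} : Set G)), Ns S⁆ ≤ S ⊓ Cs (closure ({w, v} : Set G)) :=
    commutator_le_left_of_le d.Ns_le_X
  have h1 := d.hyp.eq_bot hS (hX.trans inf_le_left)
    (hX.trans (d.X_le.trans (Cs_anti (hX.trans inf_le_left)))) right_le_Ns_commutator
    fun F hF n hn z _ hz => by
      obtain ⟨a, B, r, y, o⟩ := d.exists_od hF
      obtain ⟨m, hm, h⟩ := o.nn.ff.conjC hn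
      rw [h z (d.comm_le o hz)]
      exact mem_normalizer_conj (right_le_Ns_commutator hm) hz
  have h2 : ∀ z ∈ S ⊓ Cs (closure ({w, v} : Set G)), ∀ n ∈ Ns S, n * z * n⁻¹ = z := fun z hz n hn =>
    conj_of_comm (commutatorElement_eq_one_iff_mul_comm.1
      (mem_bot.1 (h1.le (commutator_mem_commutator hz hn)))).symm
  refine le_antisymm (d.hyp.le_of_focal d.res _ (fun n hn s hs => ?_) fun F hF n hn e he => ?_) d.le
  · obtain ⟨y, hy, z, hz, rfl⟩ := d.exists_mul hs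
    have h3 := mul_mem (inv_mem hy) (mem_normalizer_conj (d.Ns_le hn) hy)
    convert h3 using 1
    calc _ = z⁻¹ * (y⁻¹ * (n * y * n⁻¹) * (n * z * n⁻¹)) := by group
      _ = _ := by rw [h2 z hz n hn, mem_Cs.1 hz.2 _ h3, inv_mul_cancel_left]
  · obtain ⟨a, B, r, y, o⟩ := d.exists_od hF
    obtain ⟨m, hm, c, hc, z, hz, h⟩ := d.fus o hn he
    rwa [h, h2 c (d.le_X o hc) m hm, inv_mul_cancel, mul_one]

end Dh

theorem class_two_of_two (h : Hyp S) (hE : Ess S E) (hF : Ess S F) (h1 : S ≤ Ns E) (h2 : S ≤ Ns F)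
    (hne : E ≠ F) (hc : Nat.card E ≤ Nat.card F) : ∀ s ∈ S, ∀ r ∈ S, ⁅s, r⁆ ∈ Cs S := by
  have o := hE.off h hF (hF.le.trans h1) (hE.le.trans h2) hne hc
  obtain ⟨C, k⟩ := o.exists_ff
  have hT : Tn S E = S := inf_eq_left.2 h1
  have hq := k.quad
  have hg := fun s hs => o.gen (s := s) hs
  rw [hT] at hq hg
  have hcj : ∀ f ∈ S, ∀ z ∈ Cs S, f * z * f⁻¹ ∈ Cs S := fun f hf z hz => by
    rwa [conj_of_comm (mem_Cs.1 hz f hf)]
  intro s hs r hr
  obtain ⟨f, hf, he⟩ := hg s hs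
  obtain ⟨f', hf', he'⟩ := hg r hr
  rw [show s = f * (f⁻¹ * s) by group, cm_mul_left]
  refine mul_mem (hcj f (hF.le hf) _ ?_) ?_
  · rw [← commutatorElement_inv]
    exact inv_mem (hq r hr _ he)
  · rw [show r = f' * (f'⁻¹ * r) by group, cm_mul_right, cm_eq_one (hF.mul_comm hf hf'), one_mul]
    exact hcj f' (hF.le hf') _ (hq f (hF.le hf) _ he')

theorem Hyp.main (h : Hyp S) (hG : pResidual 2 G = ⊤) (hS : NoSC S) :
    (∃ w v : G, orderOf w = 2 ∧ orderOf v = 2 ∧ w * v ≠ 1 ∧ S = closure {w, v}) ∨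
      ∀ s ∈ S, ∀ r ∈ S, ⁅s, r⁆ ∈ Cs S := by
  by_cases h1 : ∃ E, Ess S E ∧ ¬ S ≤ Ns E
  · obtain ⟨E, hE, hn⟩ := h1
    obtain ⟨a, _, _, _, o⟩ := hE.exists_od h hG hn
    obtain ⟨w, v, E, C, t, x, d⟩ := exists_dh h hG o.om
    obtain ⟨_, _, _, _, o'⟩ := d.ov.exists_od h hG
    exact .inl ⟨w, v, orderOf_two_of_mul_self d.od.w2 fun h' => d.od.wZ (h' ▸ one_mem _),
      orderOf_two_of_mul_self d.v2 fun h' => o'.wZ (h' ▸ one_mem _),
      fun h' => d.nc (by rw [h', one_mul]), d.eq hS⟩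
  push Not at h1
  right
  by_cases h2 : ∃ E F, Ess S E ∧ Ess S F ∧ E ≠ F
  · obtain ⟨E, F, hE, hF, hne⟩ := h2
    rcases le_total (Nat.card E) (Nat.card F) with hc | hc
    · exact class_two_of_two h hE hF (h1 E hE) (h1 F hF) hne hc
    · exact class_two_of_two h hF hE (h1 F hF) (h1 E hE) hne.symm hc
  push Not at h2
  suffices hZ : S ⊓ Cs S = ⊥ by
    by_cases h3 : S = ⊥
    · intro s hs r _
      rw [h3, mem_bot] at hs
      simp [hs]
    haveI := (nontrivial_iff_ne_bot S).2 h3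
    haveI := h.syl.isPGroup.center_nontrivial
    obtain ⟨z, hz⟩ := exists_ne (1 : center S)
    exact absurd (Subtype.ext (Subtype.ext (mem_bot.1 (hZ.le ⟨z.1.2, mem_Cs.2 fun s hs =>
      congrArg Subtype.val (mem_center_iff.1 z.2 ⟨s, hs⟩)⟩)))) hz
  by_cases h3 : ∃ E, Ess S E
  · obtain ⟨E, hE⟩ := h3
    have := h.eq_bot hS hE.le hE.comm (fun n hn => cj_eq_self_iff.1 (h2 _ _ (hE.conj hn) hE))
      fun F hF n hn z hz _ => h2 F E hF hE ▸ mem_normalizer_conj hn hz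
    exact eq_bot_iff.2 (this ▸ (inf_le_inf_left S (Cs_anti hE.le)).trans hE.cent)
  · exact h.eq_bot hS inf_le_left (inf_le_right.trans (Cs_anti inf_le_left))
      (fun n hn => mem_Ns_inf hn (mem_Ns_Cs hn)) fun F hF => absurd ⟨F, hF⟩ h3

end Cfsg.Lib.Gold.AI
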