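import Cfsg.Agent.Gold.AIFF

/-!
# Abelian essential subgroups which are not normal in the Sylow subgroup
-/

set_option autoImplicit false

namespace Cfsg.Lib.Gold.AI

open Subgroup Cfsg.Lib.Trans Cfsg.Lib.Local
open scoped commutatorElement

universe u

variable {G : Type u} [Group G] {S E V C F D : Subgroup G} {x y : G}

theorem exists_pow_sq_mem {H : Subgroup G} {k : ℕ} (hk : x ^ 2 ^ k = 1) (hx : x ∉ H) :
    ∃ j : ℕ, x ^ 2 ^ j ∉ H ∧ x ^ 2 ^ j * x ^ 2 ^ j ∈ H := by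
  by_contra! h
  have : ∀ j : ℕ, x ^ 2 ^ j ∉ H := by
    intro j
    induction j with
    | zero => simpa using hx
    | succ j ih => rw [pow_succ, pow_mul, sq]; exact h j ih
  exact this k (hk ▸ one_mem H)

theorem Hyp.exists_pow (h : Hyp S) (hx : x ∈ S) : ∃ k : ℕ, x ^ 2 ^ k = 1 := by
  obtain ⟨k, hk⟩ := h.syl.isPGroup ⟨x, hx⟩
  exact ⟨k, congrArg Subtype.val hk⟩

namespace FF

section General

variable (h : FF S E V C)
include h

theorem cmV {s v : G} (hs : s ∈ Tn S E) (hv : v ∈ V) : ⁅s, v⁆ ∈ V := cm_mem (h.norm hs.2) hv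

theorem cm_l {s t v : G} (hs : s ∈ Tn S E) (ht : t ∈ Tn S E) (hv : v ∈ V) :
    ⁅s * t, v⁆ = ⁅t, v⁆ * ⁅s, v⁆ := by
  rw [cm_mul_left, conj_of_comm (mem_Cs.1 (h.quad t ht v hv) s hs)]

theorem cm_r {s v w : G} (hs : s ∈ Tn S E) (hv : v ∈ V) (hw : w ∈ V) :
    ⁅s, v * w⁆ = ⁅s, v⁆ * ⁅s, w⁆ := by
  rw [cm_mul_right, conj_of_comm (h.ess.mul_comm (h.le hv) (h.le (h.cmV hs hw)))]

theorem mem_of_comm {s v : G} (hs : s ∈ Tn S E) (hv : v ∈ V) (hv' : v ∉ Cs (Tn S E))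
    (hc : s * v = v * s) : s ∈ E :=
  (h.nd s hs v hv (by rw [cm_eq_one hc]; exact one_mem _)).resolve_right hv'

theorem not_comm : ¬ Tn S E ≤ Cs (Tn S E) := fun h' => by
  obtain ⟨v, hv, hv'⟩ := h.ne
  exact hv' (h' (h.ess.le_Tn (h.le hv)))

variable [Finite G]

theorem cs {s v : G} (hs : s ∈ S) (hv : v ∈ V) (hv' : v ∉ Cs (Tn S E)) (hc : s * v = v * s) :
    s ∈ E := by
  by_contra hsE
  have h1 : E < S ⊓ C1 v := SetLike.lt_iff_le_and_exists.2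
    ⟨fun e he => mem_inf.2 ⟨h.ess.le he, mem_C1.2 (h.ess.mul_comm he (h.le hv))⟩, s,
      mem_inf.2 ⟨hs, mem_C1.2 hc⟩, hsE⟩
  obtain ⟨t, ht, htE⟩ :=
    SetLike.exists_of_lt (lt_inf_normalizer h.hyp.syl.isPGroup.to_inf_left h1)
  exact htE (h.mem_of_comm ⟨ht.1.1, ht.2⟩ hv hv' (mem_C1.1 ht.1.2))

theorem conjC {n : G} (hn : n ∈ Ns E) : ∃ m ∈ Ns S, ∀ c ∈ C, n * c * n⁻¹ = m * c * m⁻¹ := by
  by_cases hm : n ∈ Mp S E
  · obtain ⟨-, m, hm, h1⟩ := hm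
    exact ⟨m, hm, fun c hc => h1 c (h.le (h.cle hc).1)⟩
  obtain ⟨s, hs, hsE⟩ := h.ess.exists_not_mem h.hyp
  have hl : n * s * n⁻¹ ∈ Ns E := mul_mem (mul_mem hn hs.2) (inv_mem hn)
  obtain ⟨t, ht, -, m, hm, h1⟩ := h.pts _ hl (fun h' => hm (h.ess.ti h.hyp hn hs hsE h')) n hn hm
  refine ⟨m, hm, fun c hc => ?_⟩
  rw [← h1 c (h.le (h.cle hc).1)]
  have h2 := mem_normalizer_conj (h.cnorm hn) hc
  have h3 := mem_Cs.1 (h.cle hc).2 s⁻¹ (inv_mem hs)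
  have h4 := mem_Cs.1 (h.cle h2).2 t⁻¹ (inv_mem ht)
  calc _ = n * (s⁻¹ * c * s⁻¹⁻¹) * n⁻¹ := by rw [conj_of_comm h3]
    _ = n * s⁻¹ * n⁻¹ * (t⁻¹ * (n * c * n⁻¹) * t⁻¹⁻¹) * (n * s * n⁻¹) := by
      rw [conj_of_comm h4]; group
    _ = _ := by group

end General

variable (h : FF S E E C)
include h

theorem cm_sq {s e : G} (hs : s ∈ Tn S E) (he : e ∈ E) : ⁅s * s, e⁆ = ⁅s, e * e⁆ := by
  rw [h.cm_l hs hs he, h.cm_r hs he he]

theorem sqE {s : G} (hs : s ∈ Tn S E) : s * s ∈ E := by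
  obtain ⟨e, he, he'⟩ := h.ne
  obtain ⟨k, hk⟩ := h.hyp.exists_pow (h.ess.le he)
  obtain ⟨j, h1, h2⟩ := exists_pow_sq_mem hk he'
  refine h.mem_of_comm (mul_mem hs hs) (pow_mem he _) h1
    (commutatorElement_eq_one_iff_mul_comm.1 ?_)
  rw [h.cm_sq hs (pow_mem he _), cm_eq_one (mem_Cs.1 h2 s hs)]

theorem cm_sq_one {s e : G} (hs : s ∈ Tn S E) (he : e ∈ E) : ⁅s, e⁆ * ⁅s, e⁆ = 1 := by
  rw [← h.cm_l hs hs he, cm_eq_one (h.ess.mul_comm (h.sqE hs) he)]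

theorem exists_inv' {z : G} (hz : z ∈ E ⊓ Cs (Tn S E)) :
    ∃ v ∈ E, v * v = 1 ∧ v⁻¹ * z ∈ C := by
  obtain ⟨e, he, he'⟩ := h.ne
  obtain ⟨s, hs, h1⟩ := h.surj e he he' z hz
  exact ⟨_, h.cmV hs he, h.cm_sq_one hs he, h1⟩

theorem sq_split {a b : G} (ha : a ∈ E) (hb : b ∈ E) :
    b * b = a * a * (a⁻¹ * b * (a⁻¹ * b)) := by
  calc b * b = a * (a⁻¹ * b * a) * (a⁻¹ * b) := by group
    _ = _ := by rw [h.ess.mul_comm (mul_mem (inv_mem ha) hb) ha]; group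

theorem sqC' {z : G} (hz : z ∈ E ⊓ Cs (Tn S E)) : z * z ∈ C := by
  obtain ⟨v, hv, h1, h2⟩ := h.exists_inv' hz
  rw [h.sq_split hv hz.1, h1, one_mul]
  exact mul_mem h2 h2

theorem sqC {e : G} (he : e ∈ E) : e * e ∈ C := by
  obtain ⟨g, hg, hg'⟩ := h.ess.nn
  obtain ⟨z, hz, h1⟩ := h.sup g hg hg' e he
  rw [h.sq_split hz.1 he]
  refine mul_mem (h.sqC' hz) ?_
  have := mem_normalizer_conj (h.cnorm hg)
    (h.sqC' ⟨mem_normalizer_conj' hg (mul_mem (inv_mem hz.1) he), h1⟩)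
  simpa [mul_assoc] using this

theorem exists_inv {e : G} (he : e ∈ E) : ∃ v ∈ E, v * v = 1 ∧ v⁻¹ * e ∈ Cs (Tn S E) := by
  obtain ⟨g, hg, hg'⟩ := h.ess.nn
  obtain ⟨z, hz, h1⟩ := h.sup g hg hg' e he
  obtain ⟨v, hv, h2, h3⟩ :=
    h.exists_inv' ⟨mem_normalizer_conj' hg (mul_mem (inv_mem hz.1) he), h1⟩
  have hv' := mem_normalizer_conj hg hv
  refine ⟨g * v * g⁻¹, hv', by rw [conj_mul, h2]; group, ?_⟩
  have h4 := (Cs (Tn S E)).mul_mem (h.cle (mem_normalizer_conj (h.cnorm hg) h3)).2 hz.2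
  convert h4 using 1
  calc _ = (g * v * g⁻¹)⁻¹ * (z⁻¹ * (e * z)) := by rw [h.ess.mul_comm he hz.1]; group
    _ = _ := by group

end FF

/-- A non-normal essential subgroup and an element moving it inside its normaliser. -/
structure NN (S E C : Subgroup G) (x : G) : Prop where
  ff : FF S E E C
  xS : x ∈ S
  xN : x ∈ Ns (Tn S E)
  xT : x ∉ Tn S E
  gen : ∀ s ∈ Tn S E, ∃ b ∈ cj x E, b⁻¹ * s ∈ E

variable [Finite G]

theorem Ess.off (h : Hyp S) (hE : Ess S E) (hF : Ess S F) (h1 : F ≤ Ns E) (h2 : E ≤ Ns F)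
    (hne : E ≠ F) (hc : Nat.card E ≤ Nat.card F) : Off S E E F where
  hyp := h
  ess := hE
  le := le_rfl
  om := fun _ he _ => he
  norm := le_rfl
  ble := le_inf hF.le h1
  nle := fun h' => hne (hF.eq_of_le hE.le hE.comm h')
  quad := fun b hb v hv => hF.comm (by
    simpa [commutatorElement_def, mul_assoc] using
      mul_mem hb (mem_normalizer_conj (h2 hv) (inv_mem hb)))
  off := by
    have e1 := card_mul_relIndex (inf_le_left : E ⊓ F ≤ E)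
    have e2 := card_mul_relIndex (inf_le_right : E ⊓ F ≤ F)
    rw [inf_relIndex_left] at e1
    rw [inf_relIndex_right] at e2
    refine le_trans (b := F.relIndex E) (Nat.le_of_dvd (Nat.pos_of_ne_zero index_ne_zero_of_finite)
      (relIndex_dvd_of_le_left E hF.comm))
      (Nat.le_of_mul_le_mul_left (c := Nat.card ↥(E ⊓ F)) ?_ Nat.card_pos)
    rwa [e1, e2]

theorem Ess.exists_nn (h : Hyp S) (hE : Ess S E) (hn : ¬ S ≤ Ns E) : ∃ C x, NN S E C x := by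
  obtain ⟨x, hx, hxT⟩ := SetLike.exists_of_lt (lt_inf_normalizer h.syl.isPGroup
    (lt_of_le_of_ne inf_le_left fun h' : Tn S E = S => hn (h'.ge.trans inf_le_right)))
  have hF := hE.conj (le_normalizer hx.1)
  have hT : Tn S (cj x E) = Tn S E := by
    rw [Tn_cj (le_normalizer hx.1), cj_eq_of_mem_normalizer hx.2]
  have o := hE.off h hF ((hF.le_Tn.trans hT.le).trans inf_le_right)
    ((hE.le_Tn.trans hT.ge).trans inf_le_right)
    (fun h' => hxT ⟨hx.1, cj_eq_self_iff.1 h'.symm⟩) (card_cj x E).ge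
  obtain ⟨C, hC⟩ := o.exists_ff
  exact ⟨C, x, hC, hx.1, hx.2, hxT, fun _ hs => o.gen hs⟩

namespace NN

variable (h : NN S E C x)
include h

omit [Finite G] in
theorem essB : Ess S (cj x E) := h.ff.ess.conj (le_normalizer h.xS)

omit [Finite G] in
theorem TnB : Tn S (cj x E) = Tn S E := by
  rw [Tn_cj (le_normalizer h.xS), cj_eq_of_mem_normalizer h.xN]

omit [Finite G] in
theorem Ble : cj x E ≤ Tn S E := h.essB.le_Tn.trans h.TnB.le

omit [Finite G] in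
theorem ZB {z : G} (hz : z ∈ S) (hz' : z ∈ Cs (Tn S E)) : z ∈ cj x E :=
  h.essB.Cs_Tn hz (h.TnB ▸ hz')

omit [Finite G] in
theorem inter {e : G} (he : e ∈ E) (he' : e ∈ cj x E) : e ∈ Cs (Tn S E) := by
  refine mem_Cs.2 fun s hs => ?_
  obtain ⟨b, hb, h2⟩ := h.gen s hs
  calc s * e = b * (b⁻¹ * s * e) := by group
    _ = b * e * (b⁻¹ * s) := by rw [h.ff.ess.mul_comm h2 he]; group
    _ = e * s := by rw [h.essB.mul_comm hb he']; group

theorem csB {s b : G} (hs : s ∈ S) (hb : b ∈ cj x E) (hb' : b ∉ Cs (Tn S E))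
    (hc : s * b = b * s) : s ∈ cj x E := by
  rw [mem_cj] at hb ⊢
  refine h.ff.cs (mul_mem (mul_mem (inv_mem h.xS) hs) h.xS) hb (fun h' => hb' ?_) ?_
  · simpa [mul_assoc] using mem_normalizer_conj (mem_Ns_Cs h.xN) h'
  · calc _ = x⁻¹ * (s * b) * x := by group
      _ = _ := by rw [hc]; group

omit [Finite G] in
theorem sqB {b : G} (hb : b ∈ cj x E) : b * b ∈ C := by
  obtain ⟨v, hv, h1, h2⟩ := h.ff.exists_inv (mem_cj.1 hb)
  have h3 := h.ff.sq_split hv (mem_cj.1 hb)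
  have h4 := mem_normalizer_conj (mem_Ns_Cs h.xN) h2
  have h5 := h.ff.sqC (h.ff.ess.Cs_Tn (mul_mem (mul_mem h.xS
    (h.ff.ess.le (mul_mem (inv_mem hv) (mem_cj.1 hb)))) (inv_mem h.xS)) h4)
  convert h5 using 1
  rw [h1, one_mul] at h3
  rw [conj_mul, ← h3]
  group

omit [Finite G] in
theorem inv_mem' {u : G} (hu : u ∈ Tn S E) (h2 : u * u ∈ C) : u ∈ E ∨ u ∈ cj x E := by
  obtain ⟨b, hb, he⟩ := h.gen u hu
  obtain ⟨e, rfl⟩ : ∃ e, u = b * e := ⟨b⁻¹ * u, by group⟩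
  rw [inv_mul_cancel_left] at he
  have h1 : b * e * (b * e) = ⁅b, e⁆ * (e * (b * b) * e) := by
    simp only [commutatorElement_def]; group
  have h3 : e * (b * b) * e ∈ C := by
    rw [h.ff.ess.mul_comm he (h.ff.cle (h.sqB hb)).1, mul_assoc]
    exact mul_mem (h.sqB hb) (h.ff.sqC he)
  rcases h.ff.nd b (h.Ble hb) e he (C.mul_mem_cancel_right h3 |>.1 (h1 ▸ h2)) with h4 | h4
  · exact .inl (mul_mem h4 he)
  · exact .inr (mul_mem hb (h.ZB (h.ff.ess.le he) h4))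

theorem cent_eq {u : G} (hu : u ∈ Tn S E) (h2 : u * u = 1) (hu' : u ∉ Cs (Tn S E)) :
    S ⊓ C1 u = E ∨ S ⊓ C1 u = cj x E := by
  refine (h.inv_mem' hu (h2 ▸ one_mem C)).imp (fun h3 => ?_) fun h3 => ?_
  · exact le_antisymm (fun s hs => h.ff.cs hs.1 h3 hu' (mem_C1.1 hs.2))
      fun e he => ⟨h.ff.ess.le he, mem_C1.2 (h.ff.ess.mul_comm he h3)⟩
  · exact le_antisymm (fun s hs => h.csB hs.1 h3 hu' (mem_C1.1 hs.2))
      fun e he => ⟨h.essB.le he, mem_C1.2 (h.essB.mul_comm he h3)⟩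

theorem swap (hy : y ∈ S) (hy' : y ∈ Ns (Tn S E)) (hyT : y ∉ Tn S E) : cj y E = cj x E := by
  obtain ⟨e, he, he'⟩ := h.ff.ne
  obtain ⟨v, hv, h1, h2⟩ := h.ff.exists_inv he
  have hv' : v ∉ Cs (Tn S E) := fun h' => he' (by simpa using mul_mem h' h2)
  have hF := h.ff.ess.conj (le_normalizer hy)
  have h3 : cj y E ≤ S ⊓ C1 (y * v * y⁻¹) := fun f hf =>
    ⟨hF.le hf, mem_C1.2 (hF.mul_comm hf (conj_mem_cj.2 hv))⟩
  rcases h.cent_eq (mem_normalizer_conj hy' (h.ff.ess.le_Tn hv)) (by rw [conj_mul, h1]; group)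
    (fun h' => hv' (by simpa [mul_assoc] using mem_normalizer_conj' (mem_Ns_Cs hy') h'))
    with h4 | h4
  · exact absurd ⟨hy, mem_normalizer_of_cj_le (h3.trans h4.le)⟩ hyT
  · exact (hF.eq_of_le h.essB.le h.essB.comm (h3.trans h4.le)).symm

theorem idx2 {y' : G} (hy : y ∈ S ⊓ Ns (Tn S E)) (hyT : y ∉ Tn S E)
    (hy' : y' ∈ S ⊓ Ns (Tn S E)) (hyT' : y' ∉ Tn S E) : y⁻¹ * y' ∈ Tn S E := by
  refine ⟨S.mul_mem (S.inv_mem hy.1) hy'.1, cj_eq_self_iff.1 ?_⟩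
  rw [cj_mul, h.swap hy'.1 hy'.2 hyT', ← h.swap hy.1 hy.2 hyT, cj_inv_cj]

end NN

end Cfsg.Lib.Gold.AI
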