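import Cfsg.Agent.Gold.AIBig

/-!
# The involutions attached to the non-normal abelian essential subgroups
-/

set_option autoImplicit false

namespace Cfsg.Lib.Gold.AI

open Subgroup Cfsg.Lib.Trans Cfsg.Lib.Local
open scoped commutatorElement

universe u

variable {G : Type u} [Group G] {S E C F : Subgroup G} {x w v t : G}

/-- The conjugates, in a non-normal essential subgroup `E`, of the generator of `N_S(E)'`. -/
def Om (S : Subgroup G) (w : G) : Prop :=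
  ∃ E, Ess S E ∧ ¬ S ≤ Ns E ∧ ∃ g ∈ Ns E, g ∉ Mp S E ∧ ∃ s ∈ Tn S E, ∃ e ∈ E, ⁅s, e⁆ ≠ 1 ∧
    w = g * ⁅s, e⁆ * g⁻¹

theorem Om.conj (h : Om S w) {n : G} (hn : n ∈ Ns S) : Om S (n * w * n⁻¹) := by
  obtain ⟨E, hE, h1, g, hg, hg', s, hs, e, he, h2, rfl⟩ := h
  refine ⟨cj n E, hE.conj hn, not_le_Ns_cj hn h1, n * g * n⁻¹, by
    rw [← cj_Ns]; exact conj_mem_cj.2 hg, fun h' => hg' ?_, n * s * n⁻¹, by
    rw [Tn_cj hn]; exact conj_mem_cj.2 hs, n * e * n⁻¹, conj_mem_cj.2 he, ?_, ?_⟩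
  · rw [← cj_eq_of_mem_normalizer hn] at h'
    simpa [mul_assoc] using mem_Mp_cj h'
  · rw [← cm_conj]
    simpa using h2
  · rw [← cm_conj]; group

theorem Om.mem (h : Om S w) : w ∈ S := by
  obtain ⟨E, hE, -, g, hg, -, s, hs, e, he, -, rfl⟩ := h
  exact hE.le (mem_normalizer_conj hg (cm_mem hs.2 he))

theorem FF.conj_not_mem {V : Subgroup G} (h : FF S E V C) {g s e : G} (hg : g ∈ Ns E)
    (hg' : g ∉ Mp S E) (hs : s ∈ Tn S E) (he : e ∈ V) (h1 : ⁅s, e⁆ ≠ 1) :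
    ⁅s, e⁆ ∉ C ∧ g * ⁅s, e⁆ * g⁻¹ ∉ Cs (Tn S E) := by
  have h2 : ⁅s, e⁆ ∉ C := fun h' => (h.nd s hs e he h').elim
    (fun h3 => h1 (cm_eq_one (h.ess.mul_comm h3 (h.le he))))
    fun h3 => h1 (cm_eq_one (mem_Cs.1 h3 s hs))
  exact ⟨h2, fun h' => h2 (h.inf g⁻¹ (inv_mem hg) (fun h3 => hg' (inv_mem_iff.1 h3)) _
    ⟨h.cmV hs he, h.quad s hs e he⟩ (by rwa [inv_inv]))⟩

/-- The local data at an involution `w` of `Om S`. -/
structure OD (S : Subgroup G) (w : G) (E C : Subgroup G) (t x : G) : Prop where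
  nn : NN S E C x
  sm : Small S E
  om : Om S w
  wE : w ∈ E
  w2 : w * w = 1
  wZ : w ∉ Cs (Tn S E)
  tZ : t ∈ E ⊓ Cs (Tn S E)
  t2 : t * t = 1
  tC : t ∉ C
  uniq : ∀ v, Om S v → v * w = w * v → v = w ∨ v = t * w
  tw : Om S (t * w)
  cjt : ∀ n ∈ Ns E, n * t * n⁻¹ = t ∨ Om S (n * t * n⁻¹)
  wt : ∃ g ∈ Ns E, w = g * t * g⁻¹

variable [Finite G]

theorem od_of (h : Hyp S) (hG : pResidual 2 G = ⊤) (hE : Ess S E) (hn : ¬ S ≤ Ns E) {g s e : G}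
    (hg : g ∈ Ns E) (hg' : g ∉ Mp S E) (hs : s ∈ Tn S E) (he : e ∈ E) (h1 : ⁅s, e⁆ ≠ 1) :
    ∃ C x, OD S (g * ⁅s, e⁆ * g⁻¹) E C ⁅s, e⁆ x := by
  obtain ⟨C, x, k⟩ := hE.exists_nn h hn
  have hsm := k.small hG
  have hom : Om S (g * ⁅s, e⁆ * g⁻¹) := ⟨E, hE, hn, g, hg, hg', s, hs, e, he, h1, rfl⟩
  have hw := mem_normalizer_conj hg (k.ff.cmV hs he)
  obtain ⟨h2, h3⟩ := k.ff.conj_not_mem hg hg' hs he h1
  have hM : ∀ m ∈ Mp S E, m * ⁅s, e⁆ * m⁻¹ = ⁅s, e⁆ := by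
    intro m hm
    obtain ⟨n, hn, h4⟩ := exists_of_mem_Mp hm
    rw [h4 _ (k.ff.cmV hs he), cm_conj]
    refine k.ff.cm_uniq hsm (mem_normalizer_conj (mem_Ns_inf hn.2 (le_normalizer hn.1)) hs) hs
      (mem_normalizer_conj hn.1 he) he ?_ h1
    rw [← cm_conj]
    simpa using h1
  have hT : ∀ r ∈ Tn S E, r * (g * ⁅s, e⁆ * g⁻¹) * r⁻¹ = g * ⁅s, e⁆ * g⁻¹ ∨
      r * (g * ⁅s, e⁆ * g⁻¹) * r⁻¹ = ⁅s, e⁆ * (g * ⁅s, e⁆ * g⁻¹) := by
    intro r hr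
    rw [conj_eq_cm]
    by_cases h4 : ⁅r, g * ⁅s, e⁆ * g⁻¹⁆ = 1
    · exact .inl (by rw [h4, one_mul])
    · exact .inr (by rw [k.ff.cm_uniq hsm hr hs hw he h4 h1])
  refine ⟨C, x, k, hsm, hom, hw, by rw [conj_mul, k.ff.cm_sq_one hs he]; group, h3,
    ⟨k.ff.cmV hs he, k.ff.quad s hs e he⟩, k.ff.cm_sq_one hs he, h2, fun v hv hc => ?_, ?_,
    fun n hn' => ?_, g, hg, rfl⟩
  · have hvE : v ∈ E := k.ff.cs hv.mem hw h3 hc
    obtain ⟨F, hF, hFn, g₁, hg₁, hg₁', s₁, hs₁, e₁, he₁, h4, rfl⟩ := hv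
    obtain ⟨D, y, k'⟩ := hF.exists_nn h hFn
    have h5 := k'.ff.cent_eq (mem_normalizer_conj hg₁ (k'.ff.cmV hs₁ he₁))
      (k'.ff.conj_not_mem hg₁ hg₁' hs₁ he₁ h4).2
    obtain rfl : F = E := hE.eq_of_le hF.le hF.comm fun f hf =>
      h5.le ⟨hE.le hf, mem_C1.2 (hE.mul_comm hf hvE)⟩
    obtain ⟨r, hr, h6⟩ := k.ff.pts g hg hg' g₁ hg₁ hg₁'
    rw [k.ff.cm_uniq hsm hs₁ hs he₁ he h4 h1]
    have h7 : g₁ * ⁅s, e⁆ * g₁⁻¹ = r * (g * ⁅s, e⁆ * g⁻¹) * r⁻¹ := by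
      conv_rhs => rw [← hM _ h6]
      group
    rw [h7]
    exact hT r hr
  · obtain ⟨r, hr, hrE⟩ := hE.exists_not_mem h
    rw [← (hT r hr).resolve_left fun h' => hrE (k.ff.mem_of_comm hr hw h3
      (mul_inv_eq_iff_eq_mul.1 h'))]
    exact hom.conj (le_normalizer hr.1)
  · by_cases h4 : n ∈ Mp S E
    · exact .inl (hM n h4)
    · exact .inr ⟨E, hE, hn, n, hn', h4, s, hs, e, he, h1, rfl⟩

theorem Om.exists_od (h : Hyp S) (hG : pResidual 2 G = ⊤) (hw : Om S w) :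
    ∃ E C t x, OD S w E C t x := by
  obtain ⟨E, hE, hn, g, hg, hg', s, hs, e, he, h1, rfl⟩ := hw
  obtain ⟨C, x, k⟩ := od_of h hG hE hn hg hg' hs he h1
  exact ⟨E, C, _, x, k⟩

theorem Ess.exists_od (h : Hyp S) (hG : pResidual 2 G = ⊤) (hE : Ess S E) (hn : ¬ S ≤ Ns E) :
    ∃ w C t x, OD S w E C t x := by
  obtain ⟨g, hg, hg'⟩ := hE.nn
  obtain ⟨s, hs, hsE⟩ := hE.exists_not_mem h
  obtain ⟨e, he, h1⟩ : ∃ e ∈ E, ⁅s, e⁆ ≠ 1 := by
    by_contra! h1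
    exact hsE (hE.cent ⟨hs.1, mem_Cs.2 fun e he =>
      (commutatorElement_eq_one_iff_mul_comm.1 (h1 e he)).symm⟩)
  obtain ⟨C, x, k⟩ := od_of h hG hE hn hg hg' hs he h1
  exact ⟨_, C, _, x, k⟩

theorem Om.not_mem_Cs (h : Hyp S) (hG : pResidual 2 G = ⊤) (hv : Om S v) {V : Subgroup G}
    (k : FF S E V C) : v ∉ Cs (Tn S E) := fun h' => by
  obtain ⟨F, D, t, y, o⟩ := hv.exists_od h hG
  have h1 : Tn S E ≤ F := fun s hs => o.nn.ff.cs hs.1 o.wE o.wZ (mem_Cs.1 h' s hs)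
  exact k.not_comm (h1.trans (o.nn.ff.ess.comm.trans (Cs_anti h1)))

namespace OD

variable (o : OD S w E C t x)
include o

omit [Finite G] in
theorem t_ne : t ≠ 1 := fun h' => o.tC (h' ▸ one_mem C)

omit [Finite G] in
theorem comm : t * w = w * t := o.nn.ff.ess.mul_comm o.tZ.1 o.wE

omit [Finite G] in
theorem decomp {e : G} (he : e ∈ E) :
    ∃ c ∈ C, e = c ∨ e = t * c ∨ e = w * c ∨ e = t * w * c := by
  have key : ∀ z ∈ E ⊓ Cs (Tn S E), ∃ c ∈ C, z = c ∨ z = t * c := by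
    intro z hz
    by_cases h1 : z ∈ C
    · exact ⟨z, h1, .inl rfl⟩
    · exact ⟨t * z, o.nn.ff.smallZ o.sm o.tZ hz o.tC h1,
        .inr (by rw [← mul_assoc, o.t2, one_mul])⟩
  by_cases h1 : e ∈ Cs (Tn S E)
  · obtain ⟨c, hc, h2⟩ := key e ⟨he, h1⟩
    exact ⟨c, hc, h2.imp_right .inl⟩
  · obtain ⟨c, hc, h2⟩ := key (w * e) ⟨mul_mem o.wE he, o.sm w o.wE e he o.wZ h1⟩
    have h3 : e = w * (w * e) := by rw [← mul_assoc, o.w2, one_mul]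
    refine ⟨c, hc, .inr (.inr (h2.imp (fun h4 => by rw [h3, h4]) fun h4 => ?_))⟩
    rw [h3, h4, o.comm, mul_assoc]

theorem mem_Ns {s : G} (hs : s ∈ S) (h1 : s * w * s⁻¹ = w ∨ s * w * s⁻¹ = t * w) : s ∈ Ns E := by
  have h2 : S ⊓ C1 (s * w * s⁻¹) = E := by
    rcases h1 with h1 | h1 <;> rw [h1]
    · exact o.nn.ff.cent_eq o.wE o.wZ
    · exact o.nn.ff.cent_eq (mul_mem o.tZ.1 o.wE) fun h' =>
        o.wZ ((Cs (Tn S E)).mul_mem_cancel_left o.tZ.2 |>.1 h')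
  have h3 := o.nn.ff.ess.conj (le_normalizer hs)
  exact mem_normalizer_of_cj_le fun f hf =>
    h2.le ⟨h3.le hf, mem_C1.2 (h3.mul_comm hf (conj_mem_cj.2 o.wE))⟩

theorem exists_not_comm : ∃ b, Om S b ∧ w * b ≠ b * w := by
  refine ⟨x * w * x⁻¹, o.om.conj (le_normalizer o.nn.xS), fun h' => o.wZ ?_⟩
  have h1 := o.nn.inter (o.nn.ff.cs (o.om.conj (le_normalizer o.nn.xS)).mem o.wE o.wZ h'.symm)
    (conj_mem_cj.2 o.wE)
  simpa [mul_assoc] using mem_normalizer_conj' (mem_Ns_Cs o.nn.xN) h1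

/-- There is no normal essential subgroup. -/
theorem no_normal (hF : Ess S F) (hn : S ≤ Ns F) : False := by
  have h := o.nn.ff.hyp
  have hwS := o.om.mem
  have hwT : w ∈ Tn S F := ⟨hwS, hn hwS⟩
  have wi := inv_eq_of_sq o.w2
  have hwF : w ∉ F := fun h' => o.nn.not_le (by
    rwa [← hF.eq_of_le o.nn.ff.ess.le o.nn.ff.ess.comm fun f hf =>
      o.nn.ff.cs (hF.le hf) o.wE o.wZ (hF.mul_comm hf h')] at hn)
  have hcj : ∀ f, f * w * f⁻¹ = w * ⁅w, f⁆ := fun f => by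
    rw [commutatorElement_def, wi, ← mul_assoc, ← mul_assoc, ← mul_assoc, o.w2, one_mul]
  have key : ∀ f ∈ F, ⁅w, f⁆ * ⁅w, f⁆ = 1 → ⁅w, f⁆ = 1 ∨ ⁅w, f⁆ = t := by
    intro f hf h1
    have h2 : f * w * f⁻¹ * w = w * (f * w * f⁻¹) := by
      calc _ = ⁅w, f⁆⁻¹ := by rw [commutatorElement_inv, commutatorElement_def, wi]
        _ = _ := by rw [inv_eq_of_sq h1, commutatorElement_def, wi]; group
    refine (o.uniq _ (o.om.conj (le_normalizer (hF.le hf))) h2).imp (fun h3 => ?_) fun h3 => ?_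
    · rwa [hcj, mul_eq_left] at h3
    · rwa [hcj, o.comm, mul_right_inj] at h3
  let V : Subgroup G :=
    { carrier := {f | f ∈ F ∧ f * f = 1}
      one_mem' := ⟨one_mem _, one_mul 1⟩
      mul_mem' := fun {a b} ha hb => ⟨mul_mem ha.1 hb.1, by
        calc a * b * (a * b) = a * (b * a) * b := by group
          _ = a * a * (b * b) := by rw [hF.mul_comm hb.1 ha.1]; group
          _ = 1 := by rw [ha.2, hb.2, one_mul]⟩
      inv_mem' := fun {a} ha => ⟨inv_mem ha.1, by rw [inv_eq_of_sq ha.2, ha.2]⟩ }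
  have hV : Ns F ≤ Ns V := fun n hn => mem_normalizer_of_cj_le (cj_le_iff.2 fun f hf =>
    ⟨mem_normalizer_conj hn hf.1, by rw [conj_mul, hf.2]; group⟩)
  have keyV : ∀ f ∈ V, ⁅w, f⁆ = 1 ∨ ⁅w, f⁆ = t := fun f hf =>
    key f hf.1 (cm_mem (hV hwT.2) hf).2
  have hmul : ∀ a ∈ F, ∀ b ∈ F, ⁅w, a * b⁆ = ⁅w, a⁆ * ⁅w, b⁆ := fun a ha b hb => by
    rw [cm_mul_right, conj_of_comm (hF.mul_comm ha (cm_mem hwT.2 hb))]
  have off : Off S F V (zpowers w) := by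
    refine ⟨h, hF, fun _ hf => hf.1, fun e he h1 => ⟨he, h1⟩, hV, zpowers_le.2 hwT,
      fun h' => hwF (h' (mem_zpowers w)), fun b hb f hf => ?_, ?_⟩
    · rw [Cs_zpowers, mem_C1]
      obtain ⟨k, rfl⟩ := mem_zpowers_iff.1 hb
      rcases Int.even_or_odd' k with ⟨j, rfl | rfl⟩
      · rw [zpow_mul, zpow_two, o.w2, one_zpow]
        simp
      · rw [zpow_add_one, zpow_mul, zpow_two, o.w2, one_zpow, one_mul]
        rcases keyV f hf with h1 | h1 <;> rw [h1]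
        · simp
        · exact o.comm
    · have h1 : (Cs (zpowers w)).relIndex V ∣ 2 := by
        rw [Cs_zpowers, relIndex, index_dvd_two_iff]
        by_cases h2 : ∃ a ∈ V, ⁅w, a⁆ = t
        · obtain ⟨a, ha, h2⟩ := h2
          refine ⟨⟨a, ha⟩, fun b => (keyV b b.2).symm.imp (fun h3 => ?_) fun h3 => ?_⟩
          · refine mem_C1.2 (commutatorElement_eq_one_iff_mul_comm.1 ?_).symm
            change ⁅w, (b : G) * a⁆ = 1
            rw [hmul _ b.2.1 _ ha.1, h2, h3, o.t2]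
          · exact mem_C1.2 (commutatorElement_eq_one_iff_mul_comm.1 h3).symm
        · exact ⟨1, fun b => .inr (mem_C1.2 (commutatorElement_eq_one_iff_mul_comm.1
            ((keyV b b.2).resolve_right fun h3 => h2 ⟨b, b.2, h3⟩)).symm)⟩
      have h2 : F.relIndex (zpowers w) ≠ 1 := fun h' =>
        hwF (relIndex_eq_one.1 h' (mem_zpowers w))
      have h3 : F.relIndex (zpowers w) ≠ 0 := index_ne_zero_of_finite
      have := Nat.le_of_dvd two_pos h1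
      omega
  obtain ⟨D, k⟩ := off.exists_ff
  obtain ⟨f, hf, h1⟩ : ∃ f ∈ F, ⁅w, f⁆ * ⁅w, f⁆ ≠ 1 := by
    by_contra! h1
    refine o.nn.not_le fun s hs => ?_
    obtain ⟨b, hb, h2⟩ := off.gen ⟨hs, hn hs⟩
    have h3 : b⁻¹ * s ∈ Ns E := o.mem_Ns (hF.le h2) (by
      rw [hcj, o.comm]
      exact (key _ h2 (h1 _ h2)).imp (fun h4 => by rw [h4, mul_one]) fun h4 => by rw [h4])
    simpa using mul_mem (zpowers_le.2 (le_normalizer o.wE) hb) h3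
  have hy := cm_mem hwT.2 hf
  have hpow : ∀ n : ℕ, ⁅w, f ^ n⁆ = ⁅w, f⁆ ^ n := by
    intro n
    induction n with
    | zero => simp
    | succ n ih => rw [pow_succ, pow_succ, hmul _ (pow_mem hf n) _ hf, ih]
  obtain ⟨m, hm⟩ := h.exists_pow (hF.le (mul_mem hy hy))
  obtain ⟨j, h2, h3⟩ := exists_pow_sq_mem (H := ⊥) hm h1
  rw [mem_bot, ← sq ⁅w, f⁆, ← pow_mul, ← hpow] at h2 h3
  have h4 := (key _ (pow_mem hf _) h3).resolve_left h2
  rw [hpow, mul_comm, pow_mul, sq] at h4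
  obtain ⟨g, hg, hg'⟩ := hF.nn
  obtain ⟨a, ha, ha'⟩ := k.ne
  have h5 : ∀ a ∈ V, a ∉ Cs (Tn S F) → ⁅w, a⁆ = t := fun a ha ha' =>
    (keyV a ha).resolve_left fun h' =>
      hwF (k.mem_of_comm hwT ha ha' (commutatorElement_eq_one_iff_mul_comm.1 h'))
  have h6 := (k.conj_not_mem hg hg' hwT ha (by rw [h5 a ha ha']; exact o.t_ne)).2
  have h7 := mem_normalizer_conj (hV hg) (k.cmV hwT ha)
  have h8 := h5 _ h7 h6
  rw [h5 a ha ha'] at h7 h8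
  set y := g * ⁅w, f⁆ ^ 2 ^ j * g⁻¹ with hy'
  have hyF : y ∈ F := mem_normalizer_conj hg (pow_mem hy _)
  have h9 : y * y = g * t * g⁻¹ := by rw [hy', conj_mul, h4]
  have hyF' := mem_normalizer_conj hwT.2 hyF
  have h10 := hF.mul_comm hyF hyF'
  refine o.tC ?_
  convert o.nn.ff.sqC (o.nn.ff.cs (hF.le (mul_mem hyF' hyF)) o.wE o.wZ ?_) using 1
  · calc t = ⁅w, g * t * g⁻¹⁆ * (g * t * g⁻¹ * (g * t * g⁻¹)) := by rw [h8, h7.2, mul_one]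
      _ = w * (y * y) * w⁻¹ * (y * y) := by rw [h9, conj_eq_cm w]; exact (mul_assoc _ _ _).symm
      _ = w * y * w⁻¹ * (w * y * w⁻¹ * y) * y := by group
      _ = w * y * w⁻¹ * (y * (w * y * w⁻¹)) * y := by rw [h10]
      _ = _ := by group
  · calc w * y * w⁻¹ * y * w = w * (y * (w * y * w⁻¹)) := by rw [wi]; group
      _ = _ := by rw [h10]

end OD

end Cfsg.Lib.Gold.AI
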