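import Cfsg.Agent.Gold.PMin
import Cfsg.Agent.Solv.PConstrained

/-!
`Qd(p)`-free groups whose Sylow `p`-subgroups have class at most two.
-/

set_option autoImplicit false
set_option linter.unusedSectionVars false

namespace Cfsg.Lib.Gold

open Cfsg Subgroup Cfsg.Lib.Trans Cfsg.Lib.Trans.TJ Cfsg.Lib.Solv Cfsg.Lib.Local Cfsg.Lib.Local.MSS
open scoped commutatorElement

variable {G : Type*} [Group G] {p : ℕ} [Finite G] [hp : Fact p.Prime]

/-- In a `Qd(p)`-free group of characteristic `p` whose Sylow `p`-subgroups have class at most two, the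
Thompson subgroup is normal. -/
theorem normal_J_of_class_two (hc : centralizer (pCore p G : Set G) ≤ pCore p G)
    (hq : ¬ Involves (qd p) G) {S : Subgroup G} (hS : IsSylowIn p S ⊤) (hcl : ⁅⁅S, S⁆, S⁆ = ⊥)
    {n : ℕ} (hn0 : n = 0 ∨ n = p) : ⊤ ≤ normalizer (thompsonSubgroupOf n S : Set G) := by
  have hQS : pCore p G ≤ S := by
    have := pCoreOf_le_of_isSylowIn hS
    rwa [MSS.pCoreOf_top] at this
  refine le_of_pmin hS (inf_le_right.trans (normalizer_le_normalizer_J S)) fun P M hSP _ hM hn _ => ?_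
  have hSP' := hS.mono hSP le_top
  by_cases hJ : thompsonSubgroupOf n S ≤ pCoreOf p P
  · exact le_normalizer_J_of_le_pCoreOf hSP' hJ
  exfalso
  have hZ : S ⊓ centralizer (S : Set G) ≤ centralizer (P : Set G) := fun x hx =>
    mem_centralizer_of_pmin_of_not_involves hSP' hM hn hn0 hJ
      (fun h => hq (involves_trans h (involves_subgroup P)))
      (pCore_le_pCoreOf (hQS.trans hSP) (hc (centralizer_le hQS (memR hx)))) (memR hx)
  have h1 : ⁅pCore p G, S⁆ ≤ S ⊓ centralizer (S : Set G) :=
    (commutator_mono hQS le_rfl).trans (le_inf (commutator_le_self S)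
      (commutator_eq_bot_iff_le_centralizer.1 hcl))
  have h2 : ⁅pCore p G, P⁆ ≤ S ⊓ centralizer (S : Set G) :=
    (commutator_mono le_rfl hn).trans (commutator_ncl_le (top_le_normalizer _ P)
      ((le_centralizer_iff.1 hZ).trans (centralizer_le_normalizer _)) hSP h1)
  have h3 : resOf p P ≤ centralizer (pCore p G : Set G) :=
    MSS.resOf_le_centralizer_of_commutator_le (hS.isPGroup.to_le inf_le_left)
      ((commutator_mono le_rfl (MSS.resOf_le P)).trans h2) ((MSS.resOf_le P).trans (le_centralizer_iff.1 hZ))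
  exact hM.not_isPGroup hn (MSS.isPGroup_of_resOf_le (pCore_isPGroup p G) (h3.trans hc))

theorem normalizer_J_sup_of_class_two (hc : IsPConstrained p G) (hq : ¬ Involves (qd p) G)
    (S : Sylow p G) (hcl : ⁅⁅(S : Subgroup G), (S : Subgroup G)⁆, (S : Subgroup G)⁆ = ⊥)
    {n : ℕ} (hn0 : n = 0 ∨ n = p) :
    normalizer (thompsonSubgroupOf n (S : Subgroup G) : Set G) ⊔ pPrimeCore p G = ⊤ := by
  let f := QuotientGroup.mk' (pPrimeCore p G)
  have hf : Function.Surjective f := QuotientGroup.mk'_surjective _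
  have hS' : IsSylowIn p ((S : Subgroup G).map f) ⊤ := by
    have := (isSylowIn_top S).map f
    rwa [map_top_of_surjective _ hf] at this
  have h1 := normal_J_of_class_two (isPConstrained_iff_quotient.1 hc)
    (fun h => hq (involves_trans h (involves_quotient _))) hS'
    (by rw [← map_commutator, ← map_commutator, hcl, Subgroup.map_bot]) hn0
  have hk : (S : Subgroup G) ⊓ f.ker = ⊥ := by
    rw [QuotientGroup.ker_mk', inf_comm]
    exact inf_eq_bot_of_coprime_of_isPGroup (coprime_card_pPrimeCore p G) S.isPGroup'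
  rw [← map_J_of_injOn _ hk, ← map_mk'_normalizer_of_isPGroup _ (coprime_card_pPrimeCore p G)
    (S.isPGroup'.to_le (J_le _))] at h1
  have h2 := comap_mono (f := f) h1
  rw [comap_top, comap_map_eq, QuotientGroup.ker_mk'] at h2
  exact top_le_iff.1 h2

end Cfsg.Lib.Gold
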