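import Cfsg.Agent.Solv.PiClosed
import Cfsg.Agent.Solv.HallWielandt
import Cfsg.Agent.Solv.PGroupNormal
import Cfsg.Agent.FT.Constt
import Cfsg.Agent.Solv.Frattini
import Cfsg.Agent.Solv.Conj
import Cfsg.Agent.Char.BrauerApps

/-!
Homogeneous groups: inheritance by quotients and the reduction of `π`-closure to simple groups.
-/

set_option autoImplicit false

open Cfsg Subgroup Cfsg.Lib.Solv
open scoped Pointwise

namespace Cfsg.Lib.Gold

universe u

variable {G : Type*} [Group G] [Finite G] {π : Set ℕ}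

/-- A `π`-subgroup of an image is the image of a `π`-subgroup. -/
theorem exists_lift_isPiNum {Q : Type*} [Group Q] (f : G →* Q) (hf : Function.Surjective f)
    {K : Subgroup Q} (hK : IsPiNum π (Nat.card K)) :
    ∃ L : Subgroup G, L.map f = K ∧ IsPiNum π (Nat.card L) := by
  obtain ⟨L, hL, hmin⟩ := WellFounded.has_min (wellFounded_lt (α := Subgroup G))
    {L : Subgroup G | L.map f = K} ⟨K.comap f, map_comap_eq_self_of_surjective hf K⟩
  refine ⟨L, hL, fun p hp hd => hK p hp ?_⟩
  have h1 : f.ker.subgroupOf L ≤ frattini L := by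
    refine le_frattini_of_forall_sup_eq_top fun M h2 => ?_
    by_contra hM
    refine hmin (M.map L.subtype) ?_ (lt_of_le_of_ne (map_subtype_le M) fun h => hM ?_)
    · have h3 : (f.ker.subgroupOf L).map (f.comp L.subtype) = ⊥ :=
        (Subgroup.map_eq_bot_iff _).2 fun x hx => hx
      have h4 := congrArg (Subgroup.map (f.comp L.subtype)) h2
      rw [Subgroup.map_sup, h3, sup_bot_eq, ← map_map, ← map_map, ← MonoidHom.range_eq_map,
        range_subtype] at h4
      exact h4.trans hL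
    · apply map_injective L.subtype_injective
      rw [h, ← MonoidHom.range_eq_map, range_subtype]
  have h5 := prime_dvd_index_of_le_frattini h1 hp hd
  rwa [← relIndex, relIndex_ker, show L.map f = K from hL] at h5

theorem hallD_of_surjective {Q : Type*} [Group Q] (f : G →* Q) (hf : Function.Surjective f)
    (h : HallD π G) : HallD π Q := by
  obtain ⟨H, hH, h⟩ := h
  refine ⟨H.map f, isPiHall_map hf hH, fun K hK => ?_⟩
  obtain ⟨L, rfl, hL⟩ := exists_lift_isPiNum f hf hK
  obtain ⟨g, hg⟩ := h L hL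
  exact ⟨f g, by rw [← map_conj_smul]; exact map_mono hg⟩

theorem piClosed_of_surjective {Q : Type*} [Group Q] (f : G →* Q) (hf : Function.Surjective f)
    (h : PiClosed π G) : PiClosed π Q :=
  have := Finite.of_surjective f hf
  piClosed_of_normal (K := (piCore π G).map f) (Normal.map inferInstance f hf)
    ((isPiNum_card_piCore π G).card_map f) (h.of_dvd (index_map_dvd _ hf))

theorem piClosed_subgroup (h : PiClosed π G) (H : Subgroup G) : PiClosed π H :=
  piClosed_of_normal (K := (piCore π G).subgroupOf H) inferInstance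
    ((isPiNum_card_piCore π G).card_subgroupOf H) (h.of_dvd (relIndex_dvd_index_of_normal _ _))

omit [Finite G] in
theorem weakHom_of_injective {Q : Type*} [Group Q] (f : Q →* G) (hf : Function.Injective f)
    (h : WeakHom π G) : WeakHom π Q := by
  intro q hq hqπ R hR x hx hxπ
  have h1 := h q hq hqπ (R.map f) (hR.map _) (f x)
    (le_normalizer_map f ⟨x, hx, rfl⟩) (by rwa [orderOf_injective f hf])
  rw [mem_centralizer_iff] at h1 ⊢
  intro y hy
  exact hf (by rw [map_mul, map_mul]; exact h1 _ ⟨y, hy, rfl⟩)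

theorem weakHom_quotient_compl (h : WeakHom π G) (N : Subgroup G) [N.Normal]
    (hN : IsPiNum πᶜ (Nat.card N)) : WeakHom π (G ⧸ N) := by
  intro q hq hqπ Q hQ x hx hxπ
  have := Fact.mk hq
  obtain ⟨y, rfl, hy⟩ := exists_lift_of_primes _ (QuotientGroup.mk'_surjective N) x
  have h1 := h.mem_centralizer (K := Q.comap (QuotientGroup.mk' N))
    (isPiSubgroup_comap_mk' hN (isPiSubgroup_of_isPGroup hqπ hQ)) (x := y)
    (le_normalizer_comap _ hx) fun r hr hd => hxπ r hr (hy r hr hd)
  rw [mem_centralizer_iff] at h1 ⊢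
  intro z hz
  obtain ⟨z, rfl⟩ := QuotientGroup.mk'_surjective N z
  rw [← map_mul, ← map_mul, h1 z hz]

theorem weakHom_quotient (h : WeakHom π G) (K : Subgroup G) [K.Normal] (hK : PiClosed π K) :
    WeakHom π (G ⧸ K) := by
  set L := (piCore π K).map K.subtype with hL
  have hLK : L ≤ K := map_subtype_le _
  have e := QuotientGroup.quotientQuotientEquivQuotient L K hLK
  refine weakHom_of_injective e.symm.toMonoidHom e.symm.injective
    (weakHom_quotient_compl (h.quotient L (isPiNum_card_map_piCore π K)) _ ?_)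
  rw [← relIndex_ker, QuotientGroup.ker_mk', hL, relIndex_map_subtype]
  exact hK

theorem piClosed_of_simple_comm [IsSimpleGroup G] (h : IsMulCommutative G) : PiClosed π G := by
  have hp : (Nat.card G).Prime := by
    let _ : CommGroup G := { mul_comm := h.is_comm.comm }
    exact IsSimpleGroup.prime_card
  by_cases hπ : Nat.card G ∈ π
  · exact piClosed_of_isPiNum fun q hq hd => by
      rwa [(Nat.prime_dvd_prime_iff_eq hq hp).1 hd]
  · exact piClosed_of_isPiNum_compl fun q hq hd => by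
      rwa [(Nat.prime_dvd_prime_iff_eq hq hp).1 hd]

/-- Reduction of `π`-closure of homogeneous groups to simple groups. -/
theorem piClosed_of_simple {P : ∀ (G : Type u) [Group G] [Finite G], Prop}
    (hN : ∀ (G : Type u) [Group G] [Finite G] (N : Subgroup G), N.Normal → N ≠ ⊤ → P G →
      P N ∨ PiClosed π N)
    (hQ : ∀ (G : Type u) [Group G] [Finite G] (N : Subgroup G) [N.Normal], PiClosed π N → P G →
      P (G ⧸ N))
    (hS : ∀ (G : Type u) [Group G] [Finite G], IsSimpleGroup G → ¬ IsMulCommutative G → P G →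
      WeakHom π G → PiClosed π G)
    (G : Type u) [Group G] [Finite G] : P G → WeakHom π G → PiClosed π G := by
  refine card_induction (P := fun G _ _ => P G → WeakHom π G → PiClosed π G) ?_ G
  intro G _ _ ih hP h
  rcases subsingleton_or_nontrivial G with h0 | h0
  · exact piClosed_of_isPiNum (by rw [Nat.card_of_subsingleton (1 : G)]; exact IsPiNum.one _)
  by_cases hs : IsSimpleGroup G
  · by_cases hc : IsMulCommutative G
    · exact piClosed_of_simple_comm hc
    · exact hS G hs hc hP h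
  obtain ⟨N, hn, h1, h2⟩ : ∃ N : Subgroup G, N.Normal ∧ N ≠ ⊥ ∧ N ≠ ⊤ := by
    by_contra hne
    push Not at hne
    exact hs ⟨fun N hN => or_iff_not_imp_left.2 (hne N hN)⟩
  have h3 : PiClosed π N := (hN G N hn h2 hP).elim
    (fun h3 => ih N (card_lt_of_ne_top h2) h3 (h.subgroup N)) id
  exact h.piClosed_of_ext N h3
    (ih _ (card_quotient_lt h1) (hQ G N h3 hP) (weakHom_quotient h N h3))

/-- A `π'`-closed subgroup is the product of its `π'`-core and its intersection with a suitable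
Hall `π`-subgroup of `G`, which contains a given normal `π`-subgroup. -/
theorem exists_hall_factor (hD : HallD π G) {M U : Subgroup G} (hM : PiClosed πᶜ M)
    (hU : IsPiNum π (Nat.card U)) (hMU : M ≤ normalizer (U : Set G)) :
    ∃ H : Subgroup G, IsPiHall π H ∧ U ≤ H ∧ (piCore πᶜ M).map M.subtype ⊔ (H ⊓ M) = M := by
  obtain ⟨V, hV⟩ := exists_right_complement'_of_coprime (N := piCore πᶜ M)
    ((isPiNum_card_piCore πᶜ M).coprime hM)
  have h1 : IsPiNum π (Nat.card (V.map M.subtype)) := by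
    rw [card_map_of_injective M.subtype_injective, ← hV.symm.index_eq_card]
    rwa [PiClosed, compl_compl] at hM
  obtain ⟨H, hH, h2⟩ := hD.exists_isPiHall_ge (K := U ⊔ V.map M.subtype)
    (hU.card_sup h1 ((map_subtype_le V).trans hMU))
  refine ⟨H, hH, le_sup_left.trans h2, le_antisymm (sup_le (map_subtype_le _) inf_le_right) ?_⟩
  have h3 := congrArg (map M.subtype) hV.sup_eq_top
  rw [Subgroup.map_sup, ← MonoidHom.range_eq_map, range_subtype] at h3
  exact h3.ge.trans (sup_le_sup_left (le_inf (le_sup_right.trans h2) (map_subtype_le V)) _)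

omit [Finite G] in
theorem exists_mul_of_factor {M K V : Subgroup G} (hK : M ≤ normalizer (K : Set G))
    (h : K ⊔ V = M) {m : G} (hm : m ∈ M) : ∃ v ∈ V, ∃ k ∈ K, m = v * k := by
  have hV : V ≤ normalizer (K : Set G) := (le_sup_right.trans h.le).trans hK
  rw [← h, sup_comm, ← SetLike.mem_coe, coe_mul_of_left_le_normalizer_right V K hV] at hm
  obtain ⟨v, hv, k, hk, rfl⟩ := hm
  exact ⟨v, hv, k, hk, rfl⟩

/-- The centraliser of a `p`-subgroup is transitive on the Hall `π`-subgroups containing it. -/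
theorem exists_conj_hall (hD : HallD π G) (h : WeakHom πᶜ G) {p : ℕ} [hp : Fact p.Prime]
    (hpπ : p ∈ π) (hloc : ∀ U : Subgroup G, IsPGroup p U → U ≠ ⊥ →
      PiClosed πᶜ (normalizer (U : Set G))) (U : Subgroup G) : IsPGroup p U → U ≠ ⊥ →
    ∀ H₁ H₂ : Subgroup G, IsPiHall π H₁ → IsPiHall π H₂ → U ≤ H₁ → U ≤ H₂ →
      ∃ c ∈ centralizer (U : Set G), MulAut.conj c • H₁ = H₂ := by
  induction U using WellFoundedGT.induction with
  | ind U ih =>
  intro hU hU0
  set M := normalizer (U : Set G) with hM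
  have hUπ : IsPiNum π (Nat.card U) := isPiSubgroup_of_isPGroup hpπ hU
  obtain ⟨H, hH, hUH, hfac⟩ := exists_hall_factor hD (hloc U hU hU0) hUπ le_rfl
  set K := (piCore πᶜ M).map M.subtype with hK
  have hKπ : IsPiNum πᶜ (Nat.card K) := isPiNum_card_map_piCore _ M
  have hMK : M ≤ normalizer (K : Set G) := le_normalizer_map_subtype _
  have hKC : K ≤ centralizer (U : Set G) := fun k hk =>
    h.mem_centralizer (by rwa [compl_compl]) (map_subtype_le _ hk) (hKπ.orderOf_of_mem hk)
  suffices key : ∀ H₁ : Subgroup G, IsPiHall π H₁ → U ≤ H₁ →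
      ∃ c ∈ centralizer (U : Set G), MulAut.conj c • H₁ = H by
    intro H₁ H₂ h₁ h₂ hU₁ hU₂
    obtain ⟨c, hc, e⟩ := key H₁ h₁ hU₁
    obtain ⟨d, hd, e'⟩ := key H₂ h₂ hU₂
    exact ⟨d⁻¹ * c, mul_mem (inv_mem hd) hc, by rw [conj_mul_smul, e, ← e', conj_inv_smul_conj_smul]⟩
  intro H₁ h₁ hU₁
  obtain ⟨P, hP⟩ := (hU.comap_subtype (K := H₁)).exists_le_sylow
  have hUP : U ≤ (P : Subgroup H₁).map H₁.subtype := fun x hx => ⟨⟨x, hU₁ hx⟩, hP hx, rfl⟩
  set Q := (P : Subgroup H₁).map H₁.subtype with hQ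
  have hQp : IsPGroup p Q := P.isPGroup'.map _
  rcases hUP.eq_or_lt with heq | hlt
  · obtain ⟨g, hg⟩ := hD.exists_conj_eq h₁ hH
    have h1 : IsPiHall {p} U := by
      refine isPiHall_of_isPiHallOf (M := H₁) ?_ ((isPiHall_iff.1 h₁).2.mono ?_)
      · rw [heq, hQ, isPiHallOf_map_subtype_iff]
        exact isPiHall_singleton_sylow P
      · exact Set.compl_subset_compl.2 (Set.singleton_subset_iff.2 hpπ)
    obtain ⟨a, ha, h2⟩ := exists_conj_le_of_isPiHall_singleton h1 hUH
      (isPGroup_conj_smul hU g) (hg ▸ conj_smul_mono g hU₁)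
    have h3 : a * g ∈ M := by
      rw [← conj_mul_smul, conj_smul_le_iff] at h2
      exact mem_normalizer_of_conj_mem h2
    obtain ⟨v, hv, k, hk, e⟩ := exists_mul_of_factor hMK hfac h3
    refine ⟨k, hKC hk, ?_⟩
    rw [show k = v⁻¹ * a * g by rw [mul_assoc, e, inv_mul_cancel_left], conj_mul_smul, hg]
    exact conj_smul_eq_of_mem_normalizer (le_normalizer (mul_mem (inv_mem hv.1) ha))
  · have h1 : U < Q ⊓ M := PG.lt_inf_normalizer hQp hlt
    have h2 : IsPGroup p (Q ⊓ M : Subgroup G) := hQp.to_inf_left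
    obtain ⟨k, hk, h3⟩ := exists_conj_le_of_le_sup (N := K) (H := H ⊓ M) (K := Q ⊓ M)
      (inf_le_right.trans hMK)
      (by rw [inf_comm]
          exact inf_eq_bot_of_isPiNum ((isPiHall_iff.1 hH).1.card_of_le inf_le_left) hKπ)
      (inf_le_right.trans hfac.ge) (IsPiNum.coprime (isPiSubgroup_of_isPGroup hpπ h2) hKπ)
      (Or.inl (have := h2.isNilpotent; inferInstance))
    have h4 : MulAut.conj k • U = U := conj_smul_eq_of_mem_normalizer (map_subtype_le _ hk)
    have h5 : U < MulAut.conj k • (Q ⊓ M) := by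
      refine lt_of_le_of_ne (h4.ge.trans (conj_smul_mono k h1.le)) fun e => h1.ne ?_
      rw [← conj_inv_smul_conj_smul k (Q ⊓ M), ← e]
      exact (conj_smul_eq_of_mem_normalizer (inv_mem (map_subtype_le _ hk))).symm
    obtain ⟨c, hc, e⟩ := ih _ h5 (isPGroup_conj_smul h2 k) (ne_bot_of_gt h5) _ H
      (isPiHall_conj h₁ k) hH (conj_smul_mono k (inf_le_left.trans (map_subtype_le _)))
      (h3.trans inf_le_left)
    exact ⟨c * k, mul_mem (centralizer_le h5.le hc) (hKC hk), by rw [conj_mul_smul, e]⟩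

/-- A Hall `π`-subgroup controls its own fusion. -/
theorem hall_fusion (hD : HallD π G) (h : WeakHom πᶜ G)
    (hloc : ∀ p : ℕ, p.Prime → p ∈ π → ∀ U : Subgroup G, IsPGroup p U → U ≠ ⊥ →
      PiClosed πᶜ (normalizer (U : Set G))) {H : Subgroup G} (hH : IsPiHall π H)
    {x g : G} (hx : x ∈ H) (hy : g * x * g⁻¹ ∈ H) : ∃ a ∈ H, a * x * a⁻¹ = g * x * g⁻¹ := by
  have hHπ := (isPiHall_iff.1 hH).1
  by_cases hx1 : x = 1
  · exact ⟨1, one_mem _, by simp [hx1]⟩
  obtain ⟨p, hp, hd⟩ := Nat.exists_prime_and_dvd (mt orderOf_eq_one_iff.1 hx1)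
  have := Fact.mk hp
  have hpπ : p ∈ π := hHπ.orderOf_of_mem hx p hp hd
  obtain ⟨u, hu, huo⟩ := exists_mem_orderOf_eq_prime (K := zpowers x) hp (by rwa [Nat.card_zpowers])
  set U := zpowers u with hU
  have hUx : U ≤ zpowers x := zpowers_le.2 hu
  have hUp : IsPGroup p U := IsPGroup.of_card (n := 1) (by rw [Nat.card_zpowers, huo, pow_one])
  have hU0 : U ≠ ⊥ := fun e => hp.one_lt.ne' (by rw [← huo, orderOf_eq_one_iff, ← zpowers_eq_bot]; exact e)
  have tr := exists_conj_hall hD h hpπ (hloc p hp hpπ) U hUp hU0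
  set C := centralizer (U : Set G) with hC
  have hCN : C ≤ normalizer (U : Set G) := centralizer_le_normalizer _
  have hCc : PiClosed πᶜ C := piClosed_of_surjective (subgroupOfEquivOfLe hCN).toMonoidHom
    (subgroupOfEquivOfLe hCN).surjective (piClosed_subgroup (hloc p hp hpπ U hUp hU0) _)
  obtain ⟨H₀, hH₀, hUH₀, hfac⟩ := exists_hall_factor hD hCc (isPiSubgroup_of_isPGroup hpπ hUp) hCN
  set K := (piCore πᶜ C).map C.subtype with hK
  have hCK : C ≤ normalizer (K : Set G) := le_normalizer_map_subtype _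
  have hxC : x ∈ C := fun y hy => by
    obtain ⟨k, rfl⟩ := mem_zpowers_iff.1 (hUx hy)
    exact (Commute.refl x).zpow_left k
  obtain ⟨d, hd, e⟩ := tr H₀ H hH₀ hH hUH₀ (hUx.trans (zpowers_le.2 hx))
  have hfac' : K ⊔ (H ⊓ C) = C := by
    have h1 := congrArg (MulAut.conj d • ·) hfac
    simp only [smul_sup, smul_inf, e, conj_smul_eq_of_mem_normalizer (hCK hd),
      conj_smul_eq_of_mem_normalizer (le_normalizer hd)] at h1
    exact h1
  have hx' : x ∈ MulAut.conj g⁻¹ • H := mem_conj_smul.2 (by rwa [inv_inv])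
  obtain ⟨c, hc, e'⟩ := tr _ H (isPiHall_conj hH g⁻¹) hH (hUx.trans (zpowers_le.2 hx'))
    (hUx.trans (zpowers_le.2 hx))
  obtain ⟨v, hv, k, hk, rfl⟩ := exists_mul_of_factor hCK hfac' hc
  have h1 : k * x * k⁻¹ ∈ H := by
    have h2 := conj_mem_conj_smul (v * k) hx'
    rw [e'] at h2
    have h3 := H.mul_mem (H.mul_mem (H.inv_mem hv.1) h2) hv.1
    rwa [show v⁻¹ * (v * k * x * (v * k)⁻¹) * v = k * x * k⁻¹ by group] at h3
  have h2 : k * x * k⁻¹ * x⁻¹ ∈ H ⊓ K := mem_inf.2 ⟨H.mul_mem h1 (H.inv_mem hx), by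
    rw [mul_assoc, mul_assoc, ← mul_assoc x]
    exact mul_mem hk (conj_mem_of_mem_normalizer (hCK hxC) (inv_mem hk))⟩
  rw [inf_eq_bot_of_isPiNum hHπ (isPiNum_card_map_piCore _ C), mem_bot, mul_inv_eq_one] at h2
  have hn : g * k⁻¹ ∈ normalizer (H : Set G) := by
    rw [← conj_mul_smul, ← mem_normalizer_iff_conj_smul_eq] at e'
    have h3 := mul_mem (inv_mem e') (le_normalizer hv.1)
    rwa [show (v * k * g⁻¹)⁻¹ * v = g * k⁻¹ by group] at h3
  have hab := FT.consttC π (g * k⁻¹)
  have ha := FT.groupX_constt π hn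
  have haπ := FT.p_elt_constt π (g * k⁻¹)
  have hb' := h.mem_centralizer (by rwa [compl_compl]) (FT.groupX_constt πᶜ hn)
    (FT.p_elt_constt _ _) x hx
  set a := FT.constt π (g * k⁻¹)
  set b := FT.constt πᶜ (g * k⁻¹)
  have ha' : a ∈ H := le_of_isPiHall_of_normalizes hH (K := zpowers a)
    (by rw [isPiSubgroup_iff, Nat.card_zpowers]; exact haπ) (zpowers_le.2 ha) (mem_zpowers a)
  refine ⟨a, ha', ?_⟩
  calc a * x * a⁻¹ = a * (x * b) * (a * b)⁻¹ := by group
    _ = a * b * (k * x * k⁻¹) * (a * b)⁻¹ := by rw [hb', h2]; group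
    _ = g * x * g⁻¹ := by rw [hab]; group

/-- A homogeneous `D_π`-group with `π'`-closed local subgroups is `π'`-closed. -/
theorem piClosed_of_local (hD : HallD π G) (h : WeakHom πᶜ G)
    (hloc : ∀ p : ℕ, p.Prime → p ∈ π → ∀ U : Subgroup G, IsPGroup p U → U ≠ ⊥ →
      PiClosed πᶜ (normalizer (U : Set G))) : PiClosed πᶜ G := by
  obtain ⟨H, hH⟩ := hD.exists_isPiHall
  obtain ⟨K, hK, h1, h2⟩ := Char.Brauer.exists_normal_complement_of_hall_of_fusion H
    (coprime_of_isPiHall hH) (fun x hx y hy hxy => by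
      obtain ⟨g, rfl⟩ := isConj_iff.1 hxy
      exact hall_fusion hD h hloc hH hx hy)
    fun E p _ _ hE => hD.exists_conj_le hH ((isPiHall_iff.1 hH).1.of_dvd hE)
  have hc := isComplement'_of_normal_of_inf_eq_bot_of_sup_eq_top h2 (sup_comm K H ▸ h1)
  refine piClosed_of_normal hK ?_ ?_
  · rw [← hc.index_eq_card]
    exact (isPiHall_iff.1 hH).2
  · rw [hc.symm.index_eq_card, compl_compl]
    exact (isPiHall_iff.1 hH).1

end Cfsg.Lib.Gold
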